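import Cfsg.Agent.OddHalf.D6.QThree.PumpKnown
import Cfsg.Prelude.Def_Classification2
import Cfsg.Agent.OddHalf.Orders.ExcFi23
import Cfsg.Agent.S0252
import Cfsg.Agent.S0253
import Cfsg.Agent.S0254
import Cfsg.Agent.S0255
import Cfsg.Agent.OddHalf.D6.QThree.PumpOrd.All
import Cfsg.Agent.OddHalf.Soft
import Cfsg.Agent.OddHalf.U2.MultOf
import Cfsg.Agent.OddHalf.CoverAlt
import Cfsg.Agent.KFacts.Mult.TypeA
import Cfsg.Agent.KFacts.MulOdd.Rows

-- merged: Cfsg.Agent.OddHalf.D6.RThree.OrdArith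
section

/-!
# Known simple groups of order at most `3024`: arithmetic of the classical orders (helper340)
-/

set_option autoImplicit false

namespace Cfsg.Agent.OddHalf.D6.RThree.OrdArith

open Finset Cfsg.Agent.OddHalf.D6.QThree

/-! ### `PSL_n(q)` -/

theorem psl_two {q c : ℕ} (hq : 2 ≤ q) (h : Nat.gcd 2 (q - 1) * ((q - 1) * c) = (q ^ 2 - 1) * (q ^ 2 - q))
    (hc : c ≤ 3024) : q ≤ 17 ∧ q ≠ 16 := by
  obtain ⟨d, rfl⟩ : ∃ d, q = d + 1 := ⟨q - 1, by omega⟩
  have hd1 : 1 ≤ d := by omega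
  have e1 : (d + 1) ^ 2 - 1 = d * (d + 2) := by
    have : (d + 1) ^ 2 = d * (d + 2) + 1 := by ring
    omega
  have e2 : (d + 1) ^ 2 - (d + 1) = d * (d + 1) := by
    have : (d + 1) ^ 2 = d * (d + 1) + (d + 1) := by ring
    omega
  rw [e1, e2, Nat.add_sub_cancel] at h
  have h' : Nat.gcd 2 d * c = d * (d + 1) * (d + 2) := by
    apply Nat.eq_of_mul_eq_mul_left (show 0 < d by omega)
    calc d * (Nat.gcd 2 d * c) = Nat.gcd 2 d * (d * c) := by ring
      _ = d * (d + 2) * (d * (d + 1)) := h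
      _ = _ := by ring
  have hb : Nat.gcd 2 d * c ≤ 2 * c := Nat.mul_le_mul_right _ (Nat.gcd_le_left _ (by norm_num))
  have hd18 : d < 18 := by
    by_contra hcon
    have h3 : 18 ≤ d := by omega
    have h4 : 18 * (18 + 1) * (18 + 2) ≤ d * (d + 1) * (d + 2) :=
      Nat.mul_le_mul (Nat.mul_le_mul h3 (by omega)) (by omega)
    omega
  interval_cases d <;> simp_all

theorem psl {n q c : ℕ} (hn : 2 ≤ n) (hq : 2 ≤ q)
    (h : Nat.gcd n (q - 1) * ((q - 1) * c) = ∏ i : Fin n, (q ^ n - q ^ (i : ℕ)))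
    (hc : c ≤ 3024) : (n = 2 ∧ q ≤ 17 ∧ q ≠ 16) ∨ (n = 3 ∧ q = 2) := by
  have hge := PumpArith.psl_ge hn hq h
  have hn4 : n < 4 := by
    by_contra hcon
    have h6 : 4 ≤ n := by omega
    have h1 : 12 ≤ n * (n - 1) := by
      calc 12 = 4 * 3 := by norm_num
        _ ≤ n * (n - 1) := Nat.mul_le_mul h6 (by omega)
    have h2 : 2 ^ 12 ≤ q ^ (n * (n - 1)) :=
      (Nat.pow_le_pow_right (by norm_num) h1).trans (Nat.pow_le_pow_left hq _)
    have h3 : 1 ≤ (q - 1) ^ (n - 2) := Nat.one_le_pow _ _ (by omega)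
    have h4 : 2 ^ 12 * 1 ≤ q ^ (n * (n - 1)) * (q - 1) ^ (n - 2) := Nat.mul_le_mul h2 h3
    omega
  interval_cases n
  · left
    refine ⟨rfl, psl_two hq ?_ hc⟩
    rw [h]
    simp [Fin.prod_univ_succ]
  · right
    have hq4 : q < 4 := by
      by_contra hcon
      have h1 : 4 ≤ q := by omega
      have h2 : 4 ^ 6 * 3 ^ 1 ≤ q ^ 6 * (q - 1) ^ 1 :=
        Nat.mul_le_mul (Nat.pow_le_pow_left h1 _) (Nat.pow_le_pow_left (by omega) _)
      norm_num at h2 hge
      omega
    interval_cases q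
    · exact ⟨rfl, rfl⟩
    · exfalso
      simp [Fin.prod_univ_succ] at h
      omega

/-! ### symplectic orders -/

theorem sp {m q c : ℕ} (hm : 2 ≤ m) (hq : 2 ≤ q) (h3 : m = 2 → 3 ≤ q)
    (h : Nat.gcd 2 (q - 1) * c = q ^ (m ^ 2) * ∏ i ∈ range m, (q ^ (2 * (i + 1)) - 1))
    (hc : c ≤ 3024) : False := by
  have hge : q ^ (2 * m ^ 2) ≤ 2 * c := by
    calc q ^ (2 * m ^ 2) = q ^ (m ^ 2) * q ^ (m ^ 2) := by rw [two_mul, pow_add]
      _ ≤ q ^ (m ^ 2) * ∏ i ∈ range m, (q ^ (2 * (i + 1)) - 1) := Nat.mul_le_mul_left _ (PumpArith.sp_ge hq)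
      _ = _ := h.symm
      _ ≤ 2 * c := Nat.mul_le_mul_right _ (Nat.gcd_le_left _ (by norm_num))
  have hm3 : m < 3 := by
    by_contra hcon
    have h1 : 18 ≤ 2 * m ^ 2 := by nlinarith
    have h2 : 2 ^ 18 ≤ q ^ (2 * m ^ 2) :=
      (Nat.pow_le_pow_right (by norm_num) h1).trans (Nat.pow_le_pow_left hq _)
    omega
  obtain rfl : m = 2 := by omega
  have h2 : 3 ^ 8 ≤ q ^ 8 := Nat.pow_le_pow_left (h3 rfl) _
  norm_num at h2 hge
  omega

/-! ### unitary orders -/

theorem psu {n q c : ℕ} (hn : 3 ≤ n) (hq : 2 ≤ q) (h32 : ¬ (n = 3 ∧ q = 2))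
    (h : Nat.gcd n (q + 1) * ((q + 1) * c) =
      q ^ (n * (n - 1) / 2) * ∏ i ∈ range n, (if Even i then q ^ (i + 1) + 1 else q ^ (i + 1) - 1))
    (hc : c ≤ 3024) : False := by
  have hge : q ^ (2 * (n * (n - 1) / 2)) ≤ (q + 1) * ((q + 1) * c) := by
    calc q ^ (2 * (n * (n - 1) / 2)) = q ^ (n * (n - 1) / 2) * q ^ (n * (n - 1) / 2) := by
          rw [two_mul, pow_add]
      _ ≤ _ := Nat.mul_le_mul_left _ (PumpArith.psu_ge hq)
      _ = _ := h.symm
      _ ≤ _ := Nat.mul_le_mul_right _ (Nat.gcd_le_right _ (by omega))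
  have hn4 : n < 5 := by
    by_contra hcon
    have h1 : 10 ≤ n * (n - 1) / 2 := by
      rw [Nat.le_div_iff_mul_le (by norm_num)]
      calc 10 * 2 = 5 * 4 := by norm_num
        _ ≤ n * (n - 1) := Nat.mul_le_mul (by omega) (by omega)
    have h2 : q ^ 20 ≤ q ^ (2 * (n * (n - 1) / 2)) := Nat.pow_le_pow_right (by omega) (by omega)
    have h3 : q + 1 ≤ q * q := by nlinarith
    have h4 : (q + 1) * ((q + 1) * c) ≤ q * q * (q * q * c) :=
      Nat.mul_le_mul h3 (Nat.mul_le_mul h3 le_rfl)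
    have h5 : q * q * (q * q * c) = q ^ 4 * c := by ring
    have h6 : q ^ 20 = q ^ 4 * q ^ 16 := by ring
    have h7 : q ^ 4 * q ^ 16 ≤ q ^ 4 * c := by omega
    have h8 : q ^ 16 ≤ c := Nat.le_of_mul_le_mul_left h7 (Nat.pow_pos (by omega))
    have h9 : 2 ^ 16 ≤ q ^ 16 := Nat.pow_le_pow_left hq _
    norm_num at h9
    omega
  interval_cases n
  · have e : ∏ i ∈ range 3, (if Even i then q ^ (i + 1) + 1 else q ^ (i + 1) - 1)
        = (q + 1) * ((q ^ 2 - 1) * (q ^ 3 + 1)) := by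
      have h1 : ¬ Even 1 := by decide
      have h2 : Even 2 := by decide
      simp only [Finset.prod_range_succ, Finset.prod_range_zero, Even.zero, if_true, h1, if_false, h2]
      ring
    have e2 : Nat.gcd 3 (q + 1) * c = q ^ 3 * ((q ^ 2 - 1) * (q ^ 3 + 1)) := by
      apply Nat.eq_of_mul_eq_mul_left (show 0 < q + 1 by omega)
      rw [e] at h
      calc (q + 1) * (Nat.gcd 3 (q + 1) * c) = Nat.gcd 3 (q + 1) * ((q + 1) * c) := by ring
        _ = q ^ (3 * (3 - 1) / 2) * ((q + 1) * ((q ^ 2 - 1) * (q ^ 3 + 1))) := h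
        _ = _ := by norm_num; ring
    have e3 : Nat.gcd 3 (q + 1) * c ≤ 3 * c := Nat.mul_le_mul_right _ (Nat.gcd_le_left _ (by norm_num))
    have hq4 : q < 4 := by
      by_contra hcon
      have h9 : 4 ≤ q := by omega
      have h1 : 4 ^ 3 ≤ q ^ 3 := Nat.pow_le_pow_left h9 _
      have h2 : 4 ^ 2 ≤ q ^ 2 := Nat.pow_le_pow_left h9 _
      have h3 : 4 ^ 3 * (15 * 65) ≤ q ^ 3 * ((q ^ 2 - 1) * (q ^ 3 + 1)) :=
        Nat.mul_le_mul h1 (Nat.mul_le_mul (by omega) (by omega))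
      norm_num at h3
      omega
    interval_cases q
    · exact h32 ⟨rfl, rfl⟩
    · norm_num at e2
      omega
  · have e : ∏ i ∈ range 4, (if Even i then q ^ (i + 1) + 1 else q ^ (i + 1) - 1)
        = (q + 1) * ((q ^ 2 - 1) * (q ^ 3 + 1) * (q ^ 4 - 1)) := by
      have h1 : ¬ Even 1 := by decide
      have h2 : Even 2 := by decide
      have h3 : ¬ Even 3 := by decide
      simp only [Finset.prod_range_succ, Finset.prod_range_zero, Even.zero, if_true, h1, if_false, h2, h3]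
      ring
    have e2 : Nat.gcd 4 (q + 1) * c = q ^ 6 * ((q ^ 2 - 1) * (q ^ 3 + 1) * (q ^ 4 - 1)) := by
      apply Nat.eq_of_mul_eq_mul_left (show 0 < q + 1 by omega)
      rw [e] at h
      calc (q + 1) * (Nat.gcd 4 (q + 1) * c) = Nat.gcd 4 (q + 1) * ((q + 1) * c) := by ring
        _ = q ^ (4 * (4 - 1) / 2) * ((q + 1) * ((q ^ 2 - 1) * (q ^ 3 + 1) * (q ^ 4 - 1))) := h
        _ = _ := by norm_num; ring
    have e3 : Nat.gcd 4 (q + 1) * c ≤ 4 * c := Nat.mul_le_mul_right _ (Nat.gcd_le_left _ (by norm_num))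
    have h1 : 2 ^ 6 ≤ q ^ 6 := Nat.pow_le_pow_left hq _
    have h2 : 2 ^ 2 ≤ q ^ 2 := Nat.pow_le_pow_left hq _
    have h3 : 2 ^ 3 ≤ q ^ 3 := Nat.pow_le_pow_left hq _
    have h4 : 2 ^ 4 ≤ q ^ 4 := Nat.pow_le_pow_left hq _
    have h5 : 2 ^ 6 * (3 * 9 * 15) ≤ q ^ 6 * ((q ^ 2 - 1) * (q ^ 3 + 1) * (q ^ 4 - 1)) :=
      Nat.mul_le_mul h1 (Nat.mul_le_mul (Nat.mul_le_mul (by omega) (by omega)) (by omega))
    norm_num at h5
    omega

end Cfsg.Agent.OddHalf.D6.RThree.OrdArith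

end

-- merged: Cfsg.Agent.OddHalf.D6.RThree.OrdHyp
section

/-!
# Known simple groups of order at most `3024`: the sporadic groups and the Tits group (helper340)

`SpBig`: all these groups have order larger than `3024`. It is proved in `OrdSpor.lean` from `PumpOrd/*.lean`.
-/

set_option autoImplicit false

namespace Cfsg.Agent.OddHalf.D6.RThree.Ord

universe u

/-- Every sporadic group and the Tits group have order larger than `3024`. -/
structure SpBig : Prop where
  spor : ∀ (G : Type u) [Group G], IsSporadicGroup G → 3024 < Nat.card G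
  tits : ∀ (G : Type u) [Group G], Lie.IsoTits G → 3024 < Nat.card G

end Cfsg.Agent.OddHalf.D6.RThree.Ord

end

-- merged: Cfsg.Agent.OddHalf.D6.RThree.OrdExc
section

/-!
# Known simple groups of order at most `3024`: the exceptional groups of Lie type are larger (helper340)
-/

set_option autoImplicit false

namespace Cfsg.Agent.OddHalf.D6.RThree.Ord

open Cfsg.Agent.OddHalf.Orders

universe u

variable {X : Type u} [Group X]

theorem g2 (hX : Lie.IsoChevG2 X) : 3024 < Nat.card X := by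
  by_contra hcon
  have hN : Nat.card X ≤ 3024 := by omega
  obtain ⟨F, _, _, h3, ⟨e⟩⟩ := hX
  have h : Nat.card X = Orders.g2 (Fintype.card F) := (Nat.card_congr e.toEquiv).trans (S1059.result rfl)
  have hq : 2 ≤ Fintype.card F := Fintype.one_lt_card
  refine big (D := 1) hq ((le_g2 hq).trans ?_) hN (by norm_num)
  rw [one_mul, h]

theorem f4 (hX : Lie.IsoF4 X) : 3024 < Nat.card X := by
  by_contra hcon
  have hN : Nat.card X ≤ 3024 := by omega
  obtain ⟨F, _, _, ⟨e⟩⟩ := hX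
  have h : Nat.card X = Orders.f4 (Fintype.card F) := (Nat.card_congr e.toEquiv).trans (S1062.result rfl)
  have hq : 2 ≤ Fintype.card F := Fintype.one_lt_card
  refine big (D := 1) hq ((le_f4 hq).trans ?_) hN (by norm_num)
  rw [one_mul, h]

theorem td4 (hX : Lie.Iso3D4 X) : 3024 < Nat.card X := by
  by_contra hcon
  have hN : Nat.card X ≤ 3024 := by omega
  obtain ⟨F, _, _, q, hpp, hF, ⟨e⟩⟩ := hX
  have h : Nat.card X = d4 q := (Nat.card_congr e.toEquiv).trans (S1067.result hpp hF)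
  have hq : 2 ≤ q := hpp.two_le
  refine big (D := 1) hq ((le_d4 hq).trans ?_) hN (by norm_num)
  rw [one_mul, h]

theorem suz (hX : Lie.IsoSuzuki X) : 3024 < Nat.card X := by
  by_contra hcon
  have hN : Nat.card X ≤ 3024 := by omega
  obtain ⟨F, _, _, m, hm, hF, ⟨e⟩⟩ := hX
  have h : Nat.card X = sz (2 ^ (2 * m + 1)) :=
    (Nat.card_congr e.toEquiv).trans (S1163.result hm hF).1
  have hq : 2 ^ 3 ≤ 2 ^ (2 * m + 1) := Nat.pow_le_pow_right (by norm_num) (by omega)
  have h3 : (2 ^ 3) ^ 2 * (2 ^ 3 - 1) * ((2 ^ 3) ^ 2 + 1) ≤ sz (2 ^ (2 * m + 1)) := by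
    unfold sz
    exact Nat.mul_le_mul (Nat.mul_le_mul (Nat.pow_le_pow_left hq _) (by omega))
      (Nat.add_le_add_right (Nat.pow_le_pow_left hq _) _)
  rw [← h] at h3
  norm_num at h3
  omega

theorem ree2 (hX : Lie.IsoRee X) : 3024 < Nat.card X := by
  by_contra hcon
  have hN : Nat.card X ≤ 3024 := by omega
  obtain ⟨F, _, _, m, hm, hF, ⟨e⟩⟩ := hX
  have h : Nat.card X = ree (3 ^ (2 * m + 1)) :=
    (Nat.card_congr e.toEquiv).trans (S1069.result hF)
  have hq : 3 ^ 3 ≤ 3 ^ (2 * m + 1) := Nat.pow_le_pow_right (by norm_num) (by omega)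
  have h3 : (3 ^ 3) ^ 3 * (3 ^ 3 - 1) * ((3 ^ 3) ^ 3 + 1) ≤ ree (3 ^ (2 * m + 1)) := by
    unfold ree
    exact Nat.mul_le_mul (Nat.mul_le_mul (Nat.pow_le_pow_left hq _) (by omega))
      (Nat.add_le_add_right (Nat.pow_le_pow_left hq _) _)
  rw [← h] at h3
  norm_num at h3
  omega

theorem tf4 (hX : Lie.Iso2F4 X) : 3024 < Nat.card X := by
  by_contra hcon
  have hN : Nat.card X ≤ 3024 := by omega
  obtain ⟨F, _, _, m, hm, hF, ⟨e⟩⟩ := hX
  have h : Nat.card X = f42 (2 ^ (2 * m + 1)) :=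
    (Nat.card_congr e.toEquiv).trans (S1068.result hF)
  have hq : 2 ≤ 2 ^ (2 * m + 1) := by
    calc 2 = 2 ^ 1 := rfl
      _ ≤ _ := Nat.pow_le_pow_right (by norm_num) (by omega)
  have h3 : (2 ^ (2 * m + 1)) ^ 24 ≤ Nat.card X := by
    rw [h]
    generalize 2 ^ (2 * m + 1) = q at hq
    exact mul_pow_le (mul_pow_le (mul_pow_le (mul_pow_le (b := 0) le_rfl (by rw [pow_zero]; omega))
      (pow_le_add q 3)) (pow_le_sub hq 3)) (pow_le_add q 6)
  exact big (D := 1) hq (by rw [one_mul]; exact h3) hN (by norm_num)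

/-- the exceptional groups of Lie type -/
theorem exceptional (hS : SpBig.{u}) (hX : IsExceptionalLieType X) : 3024 < Nat.card X := by
  by_contra hcon
  have hN : Nat.card X ≤ 2044735236646502400 := by omega
  rcases hX with h | h | h | h | h | h | h | h | h | h | h
  · exact hcon (g2 h)
  · exact hcon (f4 h)
  · exact e6_fi23 h hN
  · exact e7_fi23 h hN
  · exact e8_fi23 h hN
  · exact e26_fi23 h hN
  · exact hcon (td4 h)
  · exact hcon (suz h)
  · exact hcon (ree2 h)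
  · exact hcon (tf4 h)
  · exact hcon (hS.tits X h)

end Cfsg.Agent.OddHalf.D6.RThree.Ord

end

-- merged: Cfsg.Agent.OddHalf.D6.RThree.OrdKnown
section

/-!
# The known non-abelian simple groups of order at most `3024` (helper340)
-/

set_option autoImplicit false

namespace Cfsg.Agent.OddHalf.D6.RThree.Ord

open Cfsg.Agent.OddHalf.D6.QThree

universe u

/-- alternating, or `PSL(2,q)` with `q ∈ {7, 8, 11, 13, 17}` -/
def Small (X : Type u) [Group X] : Prop :=
  IsAlternating X ∨ (∃ (F : Type) (_ : Field F) (_ : Fintype F), Fintype.card F ∈ ({7, 8, 11, 13, 17} : Finset ℕ) ∧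
    Nonempty (X ≃* Matrix.ProjectiveSpecialLinearGroup (Fin 2) F))

variable {X : Type u} [Group X]

theorem psl (hX : IsPSL X) (hc : Nat.card X ≤ 3024) : Small X := by
  obtain ⟨F, _, _, n, hn, hn2, ⟨e⟩⟩ := hX
  have h1 := Cfsg.Agent.S0243.result (F := F) rfl n hn
  rw [← Nat.card_congr e.toEquiv] at h1
  have hq : 2 ≤ Fintype.card F := Fintype.one_lt_card
  rcases OrdArith.psl hn hq h1 hc with ⟨rfl, h17, h16⟩ | ⟨rfl, h2⟩
  · have hpp : IsPrimePow (Fintype.card F) := Fintype.isPrimePow_card_of_field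
    have h4 : 4 ≤ Fintype.card F := hn2 rfl
    obtain ⟨q, hqq⟩ : ∃ q, q = Fintype.card F := ⟨_, rfl⟩
    rw [← hqq] at h4 h17 h16 hpp
    interval_cases q
    · obtain ⟨e'⟩ := Cfsg.Agent.S0252.result (F := F) hqq.symm
      exact Or.inl ⟨5, le_rfl, ⟨e.trans e'⟩⟩
    · obtain ⟨e'⟩ := Cfsg.Agent.S0253.result (F := F) hqq.symm
      exact Or.inl ⟨5, le_rfl, ⟨e.trans e'⟩⟩
    · exact absurd hpp (by decide +kernel)
    · exact Or.inr ⟨F, _, _, by rw [← hqq]; decide, ⟨e⟩⟩
    · exact Or.inr ⟨F, _, _, by rw [← hqq]; decide, ⟨e⟩⟩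
    · obtain ⟨e'⟩ := Cfsg.Agent.S0254.result (F := F) hqq.symm
      exact Or.inl ⟨6, by norm_num, ⟨e.trans e'⟩⟩
    · exact absurd hpp (by decide +kernel)
    · exact Or.inr ⟨F, _, _, by rw [← hqq]; decide, ⟨e⟩⟩
    · exact absurd hpp (by decide +kernel)
    · exact Or.inr ⟨F, _, _, by rw [← hqq]; decide, ⟨e⟩⟩
    · exact absurd hpp (by decide +kernel)
    · exact absurd hpp (by decide +kernel)
    · exact absurd rfl h16
    · exact Or.inr ⟨F, _, _, by rw [← hqq]; decide, ⟨e⟩⟩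
  · have : Fact (Nat.Prime 7) := ⟨by norm_num⟩
    have e7 : Fintype.card (ZMod 7) = 7 := ZMod.card 7
    obtain ⟨e'⟩ := Cfsg.Agent.S0255.result (F := ZMod 7) (K := F) e7 h2
    exact Or.inr ⟨ZMod 7, _, _, by rw [e7]; decide, ⟨e.trans e'.symm⟩⟩

theorem psp (hX : IsPSp X) (hc : Nat.card X ≤ 3024) : False := by
  obtain ⟨F, _, _, m, hm, hm3, ⟨e⟩⟩ := hX
  have h1 := Pump.card_psp F m (by omega)
  rw [← Nat.card_congr e.toEquiv] at h1
  have hq : 2 ≤ Fintype.card F := Fintype.one_lt_card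
  exact OrdArith.sp hm hq hm3 h1 hc

theorem psu (hX : IsPSU X) (hc : Nat.card X ≤ 3024) : False := by
  obtain ⟨F, _, _, n, q, hF, hn, h32, ⟨e⟩⟩ := hX
  have h1 := Cfsg.Agent.S0280.result hF n (by omega)
  rw [← Nat.card_congr e.toEquiv] at h1
  have hq : 2 ≤ q := by
    have h2 : 2 ≤ Fintype.card F := Fintype.one_lt_card
    rw [hF] at h2
    by_contra hcon
    have : q = 0 ∨ q = 1 := by omega
    rcases this with rfl | rfl <;> norm_num at h2
  exact OrdArith.psu hn hq h32 h1 hc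

theorem cyclic (hX : IsPrimeCyclic X) : IsMulCommutative X := by
  have h2 : Nat.Prime (Nat.card X) := hX
  have : Fact (Nat.card X).Prime := ⟨h2⟩
  have : IsCyclic X := isCyclic_of_prime_card (p := Nat.card X) rfl
  exact IsCyclic.isMulCommutative

/-- **(KO), from the bounds for the sporadic groups** -/
theorem small (hS : SpBig.{u}) (hX : IsKnownSimple' X) (hna : ¬ IsMulCommutative X) (hc : Nat.card X ≤ 3024) :
    Small X := by
  rcases hX with h | h | h | h | h | h | h | h | h | h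
  · exact absurd (cyclic h) hna
  · exact Or.inl h
  · exact psl h hc
  · exact (psp h hc).elim
  · exact (psu h hc).elim
  · exact absurd (Pump.omegaOdd h) (by omega)
  · exact absurd (Pump.omegaPlus h) (by omega)
  · exact absurd (Pump.omegaMinus h) (by omega)
  · exact absurd (exceptional hS h) (by omega)
  · exact absurd (hS.spor X h) (by omega)

end Cfsg.Agent.OddHalf.D6.RThree.Ord

end

-- merged: Cfsg.Agent.OddHalf.D6.RThree.OrdSpor
section

/-!
# The sporadic groups and the Tits group have order larger than `3024` (helper340)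
-/

set_option autoImplicit false

namespace Cfsg.Agent.OddHalf.D6.RThree.Ord

open Cfsg.Agent.OddHalf.D6.QThree

universe u

theorem spor {G : Type u} [Group G] (hG : IsSporadicGroup G) : 3024 < Nat.card G := by
  rcases hG with h1 | h1 | h1 | h1 | h1 | h1 | h1 | h1 | h1 | h1 | h1 | h1 | h1 | h1 | h1 | h1 | h1 |
    h1 | h1 | h1 | h1 | h1 | h1 | h1 | h1 | h1
  · rw [PumpOrd.m11 h1]; norm_num
  · rw [PumpOrd.m12 h1]; norm_num
  · rw [PumpOrd.m22 h1]; norm_num
  · exact lt_trans (by norm_num) (PumpOrd.lt_m23 h1)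
  · exact lt_trans (by norm_num) (PumpOrd.lt_m24 h1)
  · rw [PumpOrd.j1 h1]; norm_num
  · rw [PumpOrd.j2 h1]; norm_num
  · exact lt_trans (by norm_num) (PumpOrd.lt_j3 h1)
  · exact lt_trans (by norm_num) (PumpOrd.lt_j4 h1)
  · exact lt_trans (by norm_num) (PumpOrd.lt_co1 h1)
  · exact lt_trans (by norm_num) (PumpOrd.lt_co2 h1)
  · exact lt_trans (by norm_num) (PumpOrd.lt_co3 h1)
  · exact lt_trans (by norm_num) (PumpOrd.lt_mcl h1)
  · exact lt_trans (by norm_num) (PumpOrd.lt_hs h1)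
  · exact lt_trans (by norm_num) (PumpOrd.lt_suz h1)
  · exact lt_trans (by norm_num) (PumpOrd.lt_he h1)
  · exact lt_trans (by norm_num) (PumpOrd.lt_ru h1)
  · exact lt_trans (by norm_num) (PumpOrd.lt_on h1)
  · exact lt_trans (by norm_num) (PumpOrd.lt_ly h1)
  · exact lt_trans (by norm_num) (PumpOrd.lt_fi22 h1)
  · exact lt_trans (by norm_num) (PumpOrd.lt_fi23 h1)
  · exact lt_trans (by norm_num) (PumpOrd.lt_fi24 h1)
  · exact lt_trans (by norm_num) (PumpOrd.lt_hn h1)
  · exact lt_trans (by norm_num) (PumpOrd.lt_th h1)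
  · exact lt_trans (by norm_num) (PumpOrd.lt_b h1)
  · exact lt_trans (by norm_num) (PumpOrd.lt_m h1)

theorem spBig : SpBig.{u} where
  spor := fun _ _ h => spor h
  tits := fun _ _ h => lt_trans (by norm_num) (PumpOrd.lt_tits h)

end Cfsg.Agent.OddHalf.D6.RThree.Ord

end

-- merged: Cfsg.Agent.OddHalf.D6.RThree.Ord
section

/-!
# **(KO)** The known non-abelian simple groups of order at most `3024` (helper340)
-/

set_option autoImplicit false

namespace Cfsg.Agent.OddHalf.D6.RThree.Ord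

universe u

theorem of_order {X : Type u} [Group X] (hX : IsKnownSimple' X) (hna : ¬ IsMulCommutative X)
    (h : Nat.card X ≤ 3024) :
    IsAlternating X ∨ (∃ (F : Type) (_ : Field F) (_ : Fintype F),
      Fintype.card F ∈ ({7, 8, 11, 13, 17} : Finset ℕ) ∧
      Nonempty (X ≃* Matrix.ProjectiveSpecialLinearGroup (Fin 2) F)) :=
  small spBig hX hna h

end Cfsg.Agent.OddHalf.D6.RThree.Ord

end

-- merged: Cfsg.Agent.OddHalf.D6.RThree.OrdRank
section

/-!
# A quasisimple group with a nontrivial central 2-group and `|M / Z(M)| ≤ 3024` has 2-rank 1 (helper56)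
-/

set_option autoImplicit false

namespace Cfsg.Agent.OddHalf.D6.RThree.OrdRank

open Cfsg Subgroup

universe u

/-- **(KO)**: 2-rank 1 -/
theorem rank {M : Type u} [Group M] [Finite M] (hq : IsQuasisimple M) (h2 : IsPGroup 2 ↥(center M))
    (hz : center M ≠ ⊥) (hk : IsKnownSimple' (M ⧸ center M)) (hc : Nat.card (M ⧸ center M) ≤ 3024) :
    PRankLE 2 1 M := by
  have hna : ¬ IsMulCommutative (M ⧸ center M) := Soft.quo_na hq
  have hQ : U2.Cut.QsTwo M := ⟨inferInstance, hq, h2, hz⟩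
  rcases Ord.of_order hk hna hc with ⟨n, hn, ⟨e⟩⟩ | ⟨F, _, _, hF, ⟨e⟩⟩
  · by_contra hr
    obtain ⟨h8, -⟩ := CoverAlt.d5cover M inferInstance hq h2 hz hr n hn ⟨e⟩
    have : Nontrivial (Fin n) := Fin.nontrivial_iff_two_le.2 (by omega)
    have h1 : 2 * Nat.card (alternatingGroup (Fin n)) = n.factorial := by
      rw [Nat.card_eq_fintype_card, two_mul_card_alternatingGroup, Fintype.card_perm, Fintype.card_fin]
    rw [← Nat.card_congr e.toEquiv] at h1
    have h3 : Nat.factorial 8 ≤ Nat.factorial n := Nat.factorial_le h8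
    have h4 : Nat.factorial 8 = 40320 := by decide
    omega
  · by_cases h8 : Fintype.card F = 8
    · exfalso
      have : Fact (Nat.Prime 2) := ⟨Nat.prime_two⟩
      have : CharP F 2 := charP_of_card_eq_prime_pow (p := 2) (f := 3) (by rw [h8]; norm_num)
      have hN := Cfsg.Agent.KFacts.Mult.TypeA.noDouble_PSL (F := F) (n := 2) (by norm_num) (Or.inr (by
        rw [Nat.card_eq_fintype_card, h8]; norm_num))
      exact Cfsg.Agent.KFacts.MulOdd.Rows.not_qsTwo (hN.congr e.symm) hQ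
    · refine U2.MultOf.l2 hQ (F := F) ?_ e
      simp only [Finset.mem_insert, Finset.mem_singleton] at hF
      rcases hF with h | h | h | h | h
      · rw [h]; decide
      · exact absurd h h8
      · rw [h]; decide
      · rw [h]; decide
      · rw [h]; decide

end Cfsg.Agent.OddHalf.D6.RThree.OrdRank

end
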