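import Cfsg.Agent.OddHalf.D6.RThree.Rad
import Cfsg.Agent.OddHalf.D6.PumpDown
import Cfsg.Agent.OddHalf.CaseM.End
import Cfsg.Agent.OddHalf.Quat.Classical
import Cfsg.Agent.OddHalf.D5.SixAut.SymSpl

-- merged: Cfsg.Agent.OddHalf.D6.RThree.Comp
section

/-!
# ODD half, D6, `L₃(3)`, `U₃(3)`: the components of `X = C_G(z)` contain `z` (helper783)

`Hyp.sol`: `C_X(t)` is solvable; `Hyp.z_mem`: `z` lies in every component of `X`.
-/

set_option autoImplicit false

namespace Cfsg.Agent.OddHalf.D6.RThree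

open Subgroup Cfsg
open Cfsg.Agent.OddHalf.D6.QThree.NISide
open Cfsg.Agent.SignalizersComponents.Components
open Cfsg.Agent.Cit (cj mem_cj conj_mem_cj)

/-- an element of odd order of a 2-group is trivial -/
theorem eq_one_of_odd {X : Type*} [Group X] {x : X} (h2 : IsPGroup 2 (zpowers x)) (ho : Odd (orderOf x)) :
    x = 1 := by
  obtain ⟨k, hk⟩ := h2 ⟨x, mem_zpowers x⟩
  have hk' : x ^ 2 ^ k = 1 := congrArg Subtype.val hk
  have h1 : orderOf x ∣ 2 ^ k := orderOf_dvd_of_pow_eq_one hk'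
  have h3 : Nat.Coprime (2 ^ k) (orderOf x) := Nat.Coprime.pow_left _ (Nat.coprime_two_left.2 ho)
  exact orderOf_eq_one_iff.1 (Nat.eq_one_of_dvd_coprimes h3 h1 dvd_rfl)

variable {X : Type*} [Group X] {z t a : X} {Q : Subgroup X}

namespace Hyp

theorem mem_norm (h : Hyp z t a Q) {g : X} (hg : g * t = t * g) : g ∈ normalizer (Q : Set X) := by
  rw [mem_normalizer_iff]
  intro q
  refine ⟨fun hq => h.nQ g hg q hq, fun hq => ?_⟩
  have hgi : g⁻¹ * t = t * g⁻¹ := (Commute.inv_left (show Commute g t from hg)).eq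
  have h1 := h.nQ g⁻¹ hgi _ hq
  have e : g⁻¹ * (g * q * g⁻¹) * g⁻¹⁻¹ = q := by group
  rwa [e] at h1

/-- `C_X(t)` is solvable -/
theorem sol [Finite X] (h : Hyp z t a Q) : Group.IsSolvable (centralizer ({t} : Set X)) := by
  have : Fact (Nat.Prime 2) := ⟨Nat.prime_two⟩
  set C : Subgroup X := centralizer ({t} : Set X) with hC
  have hCt : ∀ g : C, (g : X) * t = t * g := fun g => mem_centralizer_singleton_iff.1 g.2
  let φ : C →* MulAut Q := Q.normalizerMonoidHom.comp (C.subtype.codRestrict _ fun g => h.mem_norm (hCt g))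
  have hs := QThree.NISolv.solvable_mulAut (QThree.NISolv.quat_of_side h.s h.zc h.zz h.z1)
  have hk : Group.IsSolvable φ.ker := by
    have h1 : IsPGroup 2 φ.ker := by
      intro g
      have hin : In t Q ((g : C) : X) := by
        refine ⟨hCt g, fun q hq => ?_⟩
        have h2 : φ g = 1 := g.2
        have h3 : ((φ g ⟨q, hq⟩ : Q) : X) = q := by rw [h2]; rfl
        have h4 : ((g : C) : X) * q * ((g : C) : X)⁻¹ = q := h3
        exact mul_inv_eq_iff_eq_mul.1 h4
      obtain ⟨k, hk⟩ := h.Y2 _ hin ⟨_, mem_zpowers _⟩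
      have hk' : ((g : C) : X) ^ 2 ^ k = 1 := congrArg Subtype.val hk
      exact ⟨k, Subtype.ext (Subtype.ext hk')⟩
    have h2 : Group.IsNilpotent φ.ker := h1.isNilpotent
    infer_instance
  exact Group.isSolvable_of_ker_le_range φ.ker.subtype φ (by rw [range_subtype])

/-- a component is not centralised by `t` -/
theorem not_le [Finite X] (h : Hyp z t a Q) {M : Subgroup X} (hM : IsQuasisimple M)
    (hMt : ∀ x ∈ M, x * t = t * x) : False := by
  apply quasisimple_not_isSolvable hM
  have h1 : M ≤ centralizer ({t} : Set X) := fun x hx => mem_centralizer_singleton_iff.2 (hMt x hx)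
  have := h.sol
  exact Group.isSolvable_of_isSolvable_injective (f := inclusion h1) (inclusion_injective h1)

/-- `t` normalises every component -/
theorem cj_t [Finite X] (h : Hyp z t a Q) {M : Subgroup X} (hM : IsComponent M) : cj t M = M := by
  by_contra hne
  obtain ⟨D, hD1, -, -, hD3, -⟩ := Cfsg.Agent.Cit.Comp.exists_diag hM h.tt hne
  exact h.not_le hD3 fun x hx => mem_centralizer_singleton_iff.1 (hD1 hx)

/-- a component with an element of `Y (Q - ⟨z⟩)` contains `Q` -/
theorem claim (h : Hyp z t a Q) {M : Subgroup X} (hM : IsComponent M) {s r : X} (hs : s ∈ M)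
    (hr : r ∈ Q) (hy : In t Q (s * r)) (hr1 : r ≠ 1) (hrz : r ≠ z) : Q ≤ M := by
  set y := s * r with hyd
  have hsy : s = y * r⁻¹ := by rw [hyd, mul_inv_cancel_right]
  set r' := a * r * a⁻¹ with hr'
  have hr'Q : r' ∈ Q := h.s.aQ r hr
  have hrr' : r * r' ≠ r' * r := h.s.act r hr hr1 hrz
  have cya : Commute y a := h.YJ y hy a h.s.a_t h.ao
  have cyr : Commute y r := hy.2 r hr
  have cyr' : Commute y r' := hy.2 r' hr'Q
  have e1 : a * s * a⁻¹ = y * r'⁻¹ := by
    calc a * s * a⁻¹ = (a * y) * r⁻¹ * a⁻¹ := by rw [hsy]; group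
      _ = (y * a) * r⁻¹ * a⁻¹ := by rw [cya.eq]
      _ = y * r'⁻¹ := by rw [hr']; group
  have hne : s * (a * s * a⁻¹) ≠ (a * s * a⁻¹) * s := by
    intro e
    apply hrr'
    rw [e1, hsy] at e
    have h1 : y * r⁻¹ * (y * r'⁻¹) = y * y * (r' * r)⁻¹ := by
      calc y * r⁻¹ * (y * r'⁻¹) = y * (r⁻¹ * y) * r'⁻¹ := by group
        _ = y * (y * r⁻¹) * r'⁻¹ := by rw [cyr.inv_right.eq]
        _ = y * y * (r' * r)⁻¹ := by group
    have h2 : y * r'⁻¹ * (y * r⁻¹) = y * y * (r * r')⁻¹ := by
      calc y * r'⁻¹ * (y * r⁻¹) = y * (r'⁻¹ * y) * r⁻¹ := by group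
        _ = y * (y * r'⁻¹) * r⁻¹ := by rw [cyr'.inv_right.eq]
        _ = y * y * (r * r')⁻¹ := by group
    rw [h1, h2] at e
    exact (inv_injective (mul_left_cancel e)).symm
  have hcj : cj a M = M := by
    by_contra hcj
    exact hne (Cfsg.Agent.Cit.Comp.comm_of_ne hM (Cfsg.Agent.Cit.Comp.isComponent_cj hM a) (fun e => hcj e.symm)
      hs (conj_mem_cj hs))
  have hs' : a * s * a⁻¹ ∈ M := by
    have := conj_mem_cj (g := a) hs
    rwa [hcj] at this
  have hp : s⁻¹ * (a * s * a⁻¹) = r * r'⁻¹ := by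
    rw [e1, hsy]; group
  have hpM : r * r'⁻¹ ∈ M := by rw [← hp]; exact M.mul_mem (M.inv_mem hs) hs'
  have hpM' : a * (r * r'⁻¹) * a⁻¹ ∈ M := by
    have := conj_mem_cj (g := a) hpM
    rwa [hcj] at this
  refine h.s.gen h.zc h.zz h.z1 (Q.mul_mem hr (Q.inv_mem hr'Q)) ?_ ?_ hpM hpM'
  · intro e
    apply hrr'
    rw [mul_inv_eq_one] at e
    rw [← e]
  · intro e
    apply hrr'
    rw [mul_inv_eq_iff_eq_mul] at e
    have c1 : Commute (z * r') r' := (show Commute r' z from h.zc r').symm.mul_left (Commute.refl r')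
    rw [← e] at c1
    exact c1.eq

/-- `O(C_X(t)) = 1` -/
theorem core_centralizer [Finite X] (h : Hyp z t a Q) : pPrimeCore 2 ↥(centralizer ({t} : Set X)) = ⊥ := by
  set C := centralizer ({t} : Set X) with hC
  rw [eq_bot_iff]
  intro n hn
  have hcop := Cfsg.Agent.Lib.Cores.pPrimeCore_coprime (G := C) 2
  have hodd : ∀ m ∈ pPrimeCore 2 C, Odd (orderOf (m : X)) := by
    intro m hm
    have h2 : orderOf m ∣ Nat.card (pPrimeCore 2 C) := by
      rw [← Subgroup.orderOf_mk m hm]
      exact orderOf_dvd_natCard _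
    have h3 : Nat.Coprime 2 (orderOf m) := Nat.Coprime.coprime_dvd_right h2 hcop.symm
    rw [Subgroup.orderOf_coe]
    exact Nat.coprime_two_left.1 h3
  have hnt : ∀ m : C, (m : X) * t = t * m := fun m => mem_centralizer_singleton_iff.1 m.2
  have hN := Cfsg.Agent.Lib.Cores.pPrimeCore_normal (G := C) 2
  have key : ∀ r ∈ Q, (n : X) * r = r * n := by
    intro r hr
    have hrC : r ∈ C := mem_centralizer_singleton_iff.2 (h.s.ct r hr)
    have h1 : n * ⟨r, hrC⟩ * n⁻¹ * (⟨r, hrC⟩ : C)⁻¹ ∈ pPrimeCore 2 C := by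
      have h2 : (⟨r, hrC⟩ : C) * n⁻¹ * (⟨r, hrC⟩ : C)⁻¹ ∈ pPrimeCore 2 C := hN.conj_mem _ (inv_mem hn) _
      have h3 := mul_mem hn h2
      have e3 : n * ⟨r, hrC⟩ * n⁻¹ * (⟨r, hrC⟩ : C)⁻¹ = n * ((⟨r, hrC⟩ : C) * n⁻¹ * (⟨r, hrC⟩ : C)⁻¹) := by group
      rw [e3]; exact h3
    have h2 := hodd _ h1
    have h3 : (n : X) * r * (n : X)⁻¹ * r⁻¹ ∈ Q := Q.mul_mem (h.nQ n (hnt n) r hr) (Q.inv_mem hr)
    have h4 : (n : X) * r * (n : X)⁻¹ * r⁻¹ = 1 := by
      apply eq_one_of_odd _ h2
      exact h.s.pQ.to_le (zpowers_le.2 h3)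
    rwa [mul_inv_eq_one, mul_inv_eq_iff_eq_mul] at h4
  rw [mem_bot]
  apply Subtype.ext
  exact eq_one_of_odd (h.Y2 _ ⟨hnt n, key⟩) (hodd n hn)

/-- a component with `Q ≰ M`: `C_M(t) ≤ Y` -/
theorem dich [Finite X] (h : Hyp z t a Q) {M : Subgroup X} (hM : IsComponent M) (h1 : ¬ Q ≤ M)
    {m : X} (hm : m ∈ M) (hmt : m * t = t * m) : In t Q m := by
  have : Fact (Nat.Prime 2) := ⟨Nat.prime_two⟩
  have hsol := h.sol
  set C := centralizer ({t} : Set X) with hC
  set S : Subgroup C := M.subgroupOf C with hS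
  have hSn : S.IsSubnormal := hM.1.subgroupOf
  have hct : ∀ m : C, (m : X) * t = t * m := fun m => mem_centralizer_singleton_iff.1 m.2
  -- the core of `S`
  have hcore : ∀ s : S, s ∈ pCore 2 S → In t Q ((s : C) : X) := by
    intro s hs
    have e := Cfsg.Agent.SignalizersComponents.CompBasic.map_subtype_pCore_of_subnormal 2 hSn
    have h3 : (s : C) ∈ S ⊓ pCore 2 C := by rw [← e]; exact ⟨s, hs, rfl⟩
    have hN := Cfsg.Agent.Lib.Cores.pCore_normal (G := C) 2
    obtain ⟨r, hr, hy⟩ := h.rad (N := (pCore 2 C).map C.subtype) (by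
        rintro _ ⟨n, -, rfl⟩; exact hct n) ((Cfsg.Agent.Lib.Cores.pCore_isPGroup 2).map _) (by
        rintro g hg _ ⟨n, hn, rfl⟩
        exact ⟨⟨g, mem_centralizer_singleton_iff.2 hg⟩ * n * ⟨g, mem_centralizer_singleton_iff.2 hg⟩⁻¹,
          hN.conj_mem n hn _, rfl⟩) ((s : C) : X) ⟨s, h3.2, rfl⟩
    have hsM : ((s : C) : X) ∈ M := mem_subgroupOf.1 s.2
    have hr' : r = 1 ∨ r = z := by
      by_contra hcon
      push Not at hcon
      exact h1 (h.claim hM hsM hr hy hcon.1 hcon.2)
    have hsy : ((s : C) : X) = ((s : C) : X) * r * r⁻¹ := by rw [mul_inv_cancel_right]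
    refine ⟨hct s, fun q hq => ?_⟩
    rcases hr' with e1 | e1
    · have := hy.2 q hq
      rwa [e1, mul_one] at this
    · have c1 : Commute (((s : C) : X) * r) q := hy.2 q hq
      have c2 : Commute r⁻¹ q := by rw [e1]; exact (show Commute q z from h.zc q).symm.inv_left
      rw [hsy]
      exact (c1.mul_left c2).eq
  have hOS : pPrimeCore 2 S = ⊥ := by
    have e := Cfsg.Agent.SignalizersComponents.CompBasic.map_subtype_pPrimeCore_of_subnormal 2 hSn
    rw [h.core_centralizer, inf_bot_eq] at e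
    exact (map_eq_bot_iff_of_injective _ S.subtype_injective).1 e
  have hSsol : Group.IsSolvable S := inferInstance
  have hcen : centralizer (pCore 2 S : Set S) ≤ pCore 2 S :=
    Cfsg.Agent.OddOrderLocal.RankTwoSolvable.centralizer_pCore_le hOS
  -- no elements of odd order
  have hodd : ∀ s : S, Odd (orderOf s) → s = 1 := by
    intro s hs
    have h2 : s ∈ pCore 2 S := by
      apply hcen
      rw [mem_centralizer_iff]
      intro u hu
      apply Subtype.ext
      apply Subtype.ext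
      show ((u : C) : X) * ((s : C) : X) = ((s : C) : X) * ((u : C) : X)
      exact h.YJ _ (hcore u hu) _ (hct s) (by rwa [Subgroup.orderOf_coe, Subgroup.orderOf_coe])
    exact eq_one_of_odd ((Cfsg.Agent.Lib.Cores.pCore_isPGroup 2).to_le (zpowers_le.2 h2)) hs
  have hSp : IsPGroup 2 S := by
    intro s
    obtain ⟨k, m, hm, hs⟩ := Nat.exists_eq_two_pow_mul_odd (n := orderOf s) (orderOf_pos s).ne'
    refine ⟨k, hodd _ ?_⟩
    have h2 : orderOf (s ^ 2 ^ k) = m := by
      rw [orderOf_pow_of_dvd (by positivity) (Dvd.intro _ hs.symm), hs]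
      exact Nat.mul_div_cancel_left _ (by positivity)
    rw [h2]; exact hm
  have hmC : m ∈ C := mem_centralizer_singleton_iff.2 hmt
  have h4 : (⊤ : Subgroup S) ≤ pCore 2 S :=
    Cfsg.Agent.Lib.Cores.le_pCore (by infer_instance) (hSp.to_subgroup ⊤)
  exact hcore ⟨⟨m, hmC⟩, mem_subgroupOf.2 hm⟩ (h4 (mem_top _))

/-- **`z` lies in every component** -/
theorem z_mem [Finite X] (h : Hyp z t a Q) {M : Subgroup X} (hM : IsComponent M) : z ∈ M := by
  have : Fact (Nat.Prime 2) := ⟨Nat.prime_two⟩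
  by_cases hQ : Q ≤ M
  · exact hQ h.s.zQ
  have hcj := h.cj_t hM
  have htm : ∀ x ∈ M, t * x * t⁻¹ ∈ M := fun x hx => by
    have := conj_mem_cj (g := t) hx
    rwa [hcj] at this
  -- a nontrivial element of `C_M(t)`
  obtain ⟨m, hm, hmt, hm1⟩ : ∃ m ∈ M, m * t = t * m ∧ m ≠ 1 := by
    by_contra hcon
    push Not at hcon
    let φ : M →* M :=
      { toFun := fun x => ⟨t * x * t⁻¹, htm x x.2⟩
        map_one' := Subtype.ext (by show t * 1 * t⁻¹ = 1; group)
        map_mul' := fun x y => Subtype.ext (by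
          show t * (x * y) * t⁻¹ = t * x * t⁻¹ * (t * y * t⁻¹); group) }
    have hφ : MonoidHom.FixedPointFree φ := by
      intro x hx
      have h1 : t * x * t⁻¹ = x := congrArg Subtype.val hx
      exact Subtype.ext (hcon x x.2 (mul_inv_eq_iff_eq_mul.1 h1).symm)
    have h2 : Function.Involutive φ := by
      intro x
      apply Subtype.ext
      show t * (t * x * t⁻¹) * t⁻¹ = x
      calc t * (t * x * t⁻¹) * t⁻¹ = (t * t) * x * (t * t)⁻¹ := by group
        _ = x := by rw [h.tt]; group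
    have h3 := hφ.commute_all_of_involutive h2
    apply quasisimple_not_isSolvable hM.2
    exact Group.isSolvable_of_comm fun x y => h3 x y
  have hin := h.dich hM hQ hm hmt
  -- an involution of `C_M(t)`
  obtain ⟨k, hk⟩ := h.Y2 m hin ⟨m, mem_zpowers m⟩
  have hk' : m ^ 2 ^ k = 1 := congrArg Subtype.val hk
  have h2 : 2 ∣ orderOf m := by
    have h3 : orderOf m ∣ 2 ^ k := orderOf_dvd_of_pow_eq_one hk'
    obtain ⟨j, -, hj⟩ := (Nat.dvd_prime_pow Nat.prime_two).1 h3
    rw [hj]
    apply dvd_pow_self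
    rintro rfl
    rw [pow_zero, orderOf_eq_one_iff] at hj
    exact hm1 hj
  obtain ⟨u, hu⟩ : ∃ u ∈ zpowers m, u * u = 1 ∧ u ≠ 1 := by
    refine ⟨m ^ (orderOf m / 2), pow_mem (mem_zpowers m) _, ?_, ?_⟩
    · rw [← pow_add, ← two_mul, Nat.mul_div_cancel' h2, pow_orderOf_eq_one]
    · intro e
      have h3 := orderOf_dvd_of_pow_eq_one e
      have h4 := orderOf_pos m
      have h5 := Nat.le_of_dvd (Nat.div_pos (Nat.le_of_dvd h4 h2) two_pos) h3
      omega
  have huM : u ∈ M := (zpowers_le.2 hm) hu.1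
  have huin : In t Q u := by
    obtain ⟨j, rfl⟩ := mem_zpowers_iff.1 hu.1
    exact ⟨(show Commute m t from hin.1).zpow_left j, fun q hq => (show Commute m q from hin.2 q hq).zpow_left j⟩
  obtain ⟨s, hs⟩ := h.sw
  have hs2 : s * (t * z) * s⁻¹ = t := by
    calc s * (t * z) * s⁻¹ = (s * t * s⁻¹) * (s * z * s⁻¹) := by group
      _ = t * z * z := by rw [hs, h.zc s, mul_inv_cancel_right]
      _ = t := by rw [mul_assoc, h.zz, mul_one]
  have hMs := Cfsg.Agent.Cit.Comp.isComponent_cj hM s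
  rcases h.Yom u huin hu.2.1 with e | e | e | e
  · exact absurd e hu.2.2
  · rw [← e]; exact huM
  · rw [e] at huM
    by_cases hcs : cj s M = M
    · have h5 : t * z ∈ M := by
        have := conj_mem_cj (g := s) huM
        rwa [hcs, hs] at this
      have := M.mul_mem (M.inv_mem huM) h5
      rwa [inv_mul_cancel_left] at this
    · exfalso
      apply h.not_le hM.2
      intro x hx
      have h6 : x * (t * z) = (t * z) * x := by
        refine Cfsg.Agent.Cit.Comp.comm_of_ne hM hMs (fun e => hcs e.symm) hx ?_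
        have := conj_mem_cj (g := s) huM
        rwa [hs] at this
      have c1 : Commute x (t * z) := h6
      have c2 : Commute x z := h.zc x
      have c3 := c1.mul_right c2
      rw [mul_assoc, h.zz, mul_one] at c3
      exact c3.eq
  · rw [e] at huM
    by_cases hcs : cj s M = M
    · have h5 : t ∈ M := by
        have := conj_mem_cj (g := s) huM
        rwa [hcs, hs2] at this
      have := M.mul_mem (M.inv_mem h5) huM
      rwa [inv_mul_cancel_left] at this
    · exfalso
      apply h.not_le hM.2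
      intro x hx
      refine Cfsg.Agent.Cit.Comp.comm_of_ne hM hMs (fun e => hcs e.symm) hx ?_
      have := conj_mem_cj (g := s) huM
      rwa [hs2] at this

end Hyp

end Cfsg.Agent.OddHalf.D6.RThree

end

-- merged: Cfsg.Agent.OddHalf.D6.RThree.NoComp
section

/-!
# ODD half, D6, `L₃(3)`, `U₃(3)`: `E(C_G(z)) = 1` (helper783)

A component `M` of `C_G(z)` contains `z`, so that `|M| ≤ |K| ≤ 6048`, `|M / Z(M)| ≤ 3024` and `M` has 2-rank 1.
-/

set_option autoImplicit false

namespace Cfsg.Agent.OddHalf.D6.RThree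

open Subgroup Cfsg Cfsg.Agent.OddHalf.Iface
open Cfsg.Agent.SignalizersComponents.Components

universe u

/-- **KO**: the double covers of small order have 2-rank 1 -/
def KO : Prop :=
  ∀ (M : Type u) [Group M] [Finite M], IsQuasisimple M → IsPGroup 2 (center M) → center M ≠ ⊥ →
    IsKnownSimple' (M ⧸ center M) → Nat.card (M ⧸ center M) ≤ 3024 → PRankLE 2 1 M

/-- a group of type `L₂(q)` has no central involution -/
theorem not_l2o {X : Type u} [Group X] (hq : IsQuasisimple X) {z : X} (hz : z ∈ center X) (hz1 : z ≠ 1) :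
    ¬ IsL2o X := by
  intro h
  have h1 : IsSimpleGroup X := D6.PumpDown.IsL2o.simple h
  have hna : ¬ IsMulCommutative X := by
    intro hc
    apply quasisimple_not_isSolvable hq
    exact Group.isSolvable_of_comm fun x y => hc.is_comm.comm x y
  have h2 := Soft.center_eq_bot hna
  rw [h2, mem_bot] at hz
  exact hz1 hz

/-- **no components** -/
theorem no_comp (hKO : KO.{u}) (hGW : SylowSp4.Hyps.GW.{u}) {G : Type u} [Group G] (C : Ctx G) {K : Subgroup G}
    (S : Std G K) (hK : Nat.card K ≤ 6048) {z : G} (hz : orderOf z = 2)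
    (hzM : ∀ M : Subgroup ↥(centralizer ({z} : Set G)), IsComponent M →
      (⟨z, mem_centralizer_singleton_iff.2 rfl⟩ : ↥(centralizer ({z} : Set G))) ∈ M)
    (M : Subgroup ↥(centralizer ({z} : Set G))) : ¬ IsComponent M := by
  intro hM
  have hfin := C.fin
  have hsimp := C.simple
  set M' : Subgroup G := M.map (centralizer ({z} : Set G)).subtype with hM'
  have hc : CompOf z M' := CaseM.compOf_map hM
  have hzM' : z ∈ M' := ⟨_, hzM M hM, rfl⟩
  have hq := Soft.CompOf.quasisimple hc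
  have hz1 : z ≠ 1 := by
    rintro rfl
    rw [orderOf_one] at hz
    exact absurd hz (by norm_num)
  have hzc : (⟨z, hzM'⟩ : M') ∈ center M' := by
    rw [mem_center_iff]
    intro g
    apply Subtype.ext
    exact mem_centralizer_singleton_iff.1 (hc.1 g.2)
  have hzne : (⟨z, hzM'⟩ : M') ≠ 1 := fun e => hz1 (congrArg Subtype.val e)
  have h1 : Nat.card M' ≤ Nat.card K := S.max z M' hz hc fun h => absurd h (not_l2o hq hzc hzne)
  have hcen : center M' ≠ ⊥ := by
    intro e
    rw [e, mem_bot] at hzc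
    exact hzne hzc
  have h2 : Nat.card (M' ⧸ center M') ≤ 3024 := by
    have h3 := Subgroup.card_eq_card_quotient_mul_card_subgroup (center M')
    have h4 : 2 ≤ Nat.card (center M') := by
      have : Nontrivial (center M') := (Subgroup.nontrivial_iff_ne_bot _).2 hcen
      exact Finite.one_lt_card
    have h5 : Nat.card (M' ⧸ center M') * 2 ≤ Nat.card (M' ⧸ center M') * Nat.card (center M') :=
      Nat.mul_le_mul_left _ h4
    omega
  have hsM := hq.2
  have hkn : IsKnownSimple' (M' ⧸ center M') :=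
    Known.known_quotient C.kproper M' (Soft.CompOf.ne_top C.na hz hc) _ hsM (Soft.quo_na hq)
  exact CaseM.rank_two C hGW hz hc hzM'
    (hKO M' hq (Soft.CompOf.center_isPGroup (C.bal z hz) hc) hcen hkn h2)

end Cfsg.Agent.OddHalf.D6.RThree

end

-- merged: Cfsg.Agent.OddHalf.D6.RThree.Elem
section

/-!
# ODD half, D6, `L₃(3)`, `U₃(3)`: the normal elementary abelian 2-subgroups of `C_G(z)` (helper783)

`Hyp.elem`: they lie in `⟨z⟩`, if `O²(C_X(t))` is not normal in `X`; `not_normal`: it is not.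
-/

set_option autoImplicit false

namespace Cfsg.Agent.OddHalf.D6.RThree

open Subgroup Cfsg
open Cfsg.Agent.OddHalf.D6.QThree.NISide
open Cfsg.Agent.SignalizersComponents.Components

namespace Hyp

variable {X : Type*} [Group X] {z t a : X} {Q : Subgroup X}

theorem a_mem (h : Hyp z t a Q) : a ∈ JJ t := subset_closure ⟨h.s.a_t, h.ao⟩

/-- conjugates of `JJ` -/
theorem conj_mem (_h : Hyp z t a Q) {g : X} (hg : ∀ x : X, x * t = t * x → (g * x * g⁻¹) * t = t * (g * x * g⁻¹))
    {x : X} (hx : x ∈ JJ t) : g * x * g⁻¹ ∈ JJ t := by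
  have h1 : JJ t ≤ (JJ t).comap (MulAut.conj g).toMonoidHom := by
    conv_lhs => rw [JJ]
    rw [closure_le]
    rintro y ⟨hy, hyo⟩
    show g * y * g⁻¹ ∈ JJ t
    refine subset_closure ⟨hg y hy, ?_⟩
    have : orderOf (g * y * g⁻¹) = orderOf y :=
      orderOf_injective (MulAut.conj g).toMonoidHom (MulAut.conj g).injective y
    rwa [this]
  exact h1 hx

theorem z_mem_JJ (h : Hyp z t a Q) : z ∈ JJ t := by
  obtain ⟨q, hq, hq1, hqz⟩ := h.s.exists_ne
  set r := a * q * a⁻¹ with hr
  have hrQ : r ∈ Q := h.s.aQ q hq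
  have hne := h.s.act q hq hq1 hqz
  have h0 : q * a⁻¹ * q⁻¹ ∈ JJ t := by
    apply h.conj_mem _ ((JJ t).inv_mem h.a_mem)
    intro x hx
    have c1 : Commute q t := h.s.ct q hq
    have c2 : Commute x t := hx
    exact ((c1.mul_left c2).mul_left c1.inv_left).eq
  have h1 : r * q⁻¹ ∈ JJ t := by
    have e : r * q⁻¹ = a * (q * a⁻¹ * q⁻¹) := by rw [hr]; group
    rw [e]
    exact mul_mem h.a_mem h0
  have h2 : r * q⁻¹ ≠ 1 := by
    intro e
    apply hne
    rw [mul_inv_eq_one] at e
    show q * r = r * q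
    rw [e]
  have h3 : r * q⁻¹ ≠ z := by
    intro e
    apply hne
    rw [mul_inv_eq_iff_eq_mul] at e
    show q * r = r * q
    rw [e, ← mul_assoc, h.zc q]
  have h4 := mul_mem h1 h1
  rwa [h.s.sq _ (Q.mul_mem hrQ (Q.inv_mem hq)) h2 h3] at h4

/-- an element of an abelian normal 2-subgroup of `C_X(t)` lies in `Y` -/
theorem in_of_abelian [Finite X] (h : Hyp z t a Q) {N : Subgroup X} (hNt : ∀ n ∈ N, n * t = t * n)
    (hN : IsPGroup 2 N) (hNn : ∀ g, g * t = t * g → ∀ n ∈ N, g * n * g⁻¹ ∈ N)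
    (hab : ∀ x ∈ N, ∀ y ∈ N, x * y = y * x) : ∀ n ∈ N, In t Q n := by
  intro n hn
  obtain ⟨r, hr, hy⟩ := h.rad hNt hN hNn n hn
  set y := n * r with hyd
  have hny : n = y * r⁻¹ := by rw [hyd, mul_inv_cancel_right]
  set r' := a * r * a⁻¹ with hr'
  have hr'Q : r' ∈ Q := h.s.aQ r hr
  have cya : Commute y a := h.YJ y hy a h.s.a_t h.ao
  have cyr : Commute y r := hy.2 r hr
  have cyr' : Commute y r' := hy.2 r' hr'Q
  have e1 : a * n * a⁻¹ = y * r'⁻¹ := by
    calc a * n * a⁻¹ = (a * y) * r⁻¹ * a⁻¹ := by rw [hny]; group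
      _ = (y * a) * r⁻¹ * a⁻¹ := by rw [cya.eq]
      _ = y * r'⁻¹ := by rw [hr']; group
  have hr1 : r = 1 ∨ r = z := by
    by_contra hcon
    push Not at hcon
    apply h.s.act r hr hcon.1 hcon.2
    have e := hab n hn (a * n * a⁻¹) (hNn a h.s.a_t n hn)
    rw [e1, hny] at e
    have h1 : y * r⁻¹ * (y * r'⁻¹) = y * y * (r' * r)⁻¹ := by
      calc y * r⁻¹ * (y * r'⁻¹) = y * (r⁻¹ * y) * r'⁻¹ := by group
        _ = y * (y * r⁻¹) * r'⁻¹ := by rw [cyr.inv_right.eq]
        _ = y * y * (r' * r)⁻¹ := by group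
    have h2 : y * r'⁻¹ * (y * r⁻¹) = y * y * (r * r')⁻¹ := by
      calc y * r'⁻¹ * (y * r⁻¹) = y * (r'⁻¹ * y) * r⁻¹ := by group
        _ = y * (y * r'⁻¹) * r⁻¹ := by rw [cyr'.inv_right.eq]
        _ = y * y * (r * r')⁻¹ := by group
    rw [h1, h2] at e
    exact (inv_injective (mul_left_cancel e)).symm
  refine ⟨hNt n hn, fun q hq => ?_⟩
  have c1 : Commute y q := hy.2 q hq
  have c2 : Commute r q := by
    rcases hr1 with e | e
    · rw [e]; exact Commute.one_left q
    · rw [e]; exact (show Commute q z from h.zc q).symm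
  rw [hny]
  exact (c1.mul_left c2.inv_left).eq

theorem Four.comm (h : Hyp z t a Q) {x : X} (hx : Four z t x) : x * t = t * x := by
  have c : Commute t z := h.zc t
  rcases hx with rfl | rfl | rfl | rfl
  · rw [one_mul, mul_one]
  · exact c.symm.eq
  · rfl
  · exact ((Commute.refl t).mul_left c.symm).eq

/-- **the normal elementary abelian 2-subgroups of `X`** -/
theorem elem [Finite X] (h : Hyp z t a Q) (hJ : ¬ (JJ t).Normal) {W : Subgroup X} (hW : W.Normal)
    (hel : ∀ w ∈ W, w * w = 1) : ∀ w ∈ W, w = 1 ∨ w = z := by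
  by_contra hcon
  push Not at hcon
  obtain ⟨w₀, hw₀, hw1, hwz⟩ := hcon
  have hab0 : ∀ x ∈ W, ∀ y ∈ W, x * y = y * x := by
    intro x hx y hy
    have h1 := hel _ (W.mul_mem hx hy)
    have hx' : x⁻¹ = x := inv_eq_of_mul_eq_one_right (hel x hx)
    have hy' : y⁻¹ = y := inv_eq_of_mul_eq_one_right (hel y hy)
    have h2 : (x * y)⁻¹ = x * y := inv_eq_of_mul_eq_one_right h1
    rw [mul_inv_rev, hx', hy'] at h2
    exact h2.symm
  -- `A = W ⟨z⟩`
  let A : Subgroup X :=
    { carrier := {x | x ∈ W ∨ x * z ∈ W}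
      one_mem' := Or.inl W.one_mem
      mul_mem' := by
        rintro x y (hx | hx) (hy | hy)
        · exact Or.inl (W.mul_mem hx hy)
        · right
          show x * y * z ∈ W
          rw [mul_assoc]; exact W.mul_mem hx hy
        · right
          have : x * y * z = x * z * y := by rw [mul_assoc, h.zc y, mul_assoc]
          show x * y * z ∈ W
          rw [this]; exact W.mul_mem hx hy
        · left
          have : x * y = x * z * (y * z) := by
            calc x * y = x * y * (z * z) := by rw [h.zz, mul_one]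
              _ = x * (y * z) * z := by group
              _ = x * (z * y) * z := by rw [h.zc y]
              _ = x * z * (y * z) := by group
          show x * y ∈ W
          rw [this]; exact W.mul_mem hx hy
      inv_mem' := by
        rintro x (hx | hx)
        · exact Or.inl (W.inv_mem hx)
        · right
          have : x⁻¹ * z = (x * z)⁻¹ := by rw [mul_inv_rev, h.zinv, h.zc x⁻¹]
          show x⁻¹ * z ∈ W
          rw [this]; exact W.inv_mem hx }
  have hmA : ∀ x, x ∈ A ↔ x ∈ W ∨ x * z ∈ W := fun x => Iff.rfl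
  have hzA : z ∈ A := Or.inr (by rw [h.zz]; exact W.one_mem)
  have hWA : W ≤ A := fun x hx => Or.inl hx
  have hAn : A.Normal := by
    refine ⟨?_⟩
    rintro x (hx | hx) g
    · exact Or.inl (hW.conj_mem x hx g)
    · right
      have e : g * x * g⁻¹ * z = g * (x * z) * g⁻¹ := by
        rw [mul_assoc (g * x), h.zc g⁻¹]; group
      rw [e]; exact hW.conj_mem _ hx g
  have hxz : ∀ x, (x * z) * (x * z) = x * x := by
    intro x
    calc (x * z) * (x * z) = x * (z * x) * z := by group
      _ = x * (x * z) * z := by rw [h.zc x]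
      _ = x * x * (z * z) := by group
      _ = x * x := by rw [h.zz, mul_one]
  have hA2 : ∀ x ∈ A, x * x = 1 := by
    rintro x (hx | hx)
    · exact hel x hx
    · rw [← hxz]; exact hel _ hx
  have hab : ∀ x ∈ A, ∀ y ∈ A, x * y = y * x := by
    intro x hx y hy
    have hx' : x⁻¹ = x := inv_eq_of_mul_eq_one_right (hA2 x hx)
    have hy' : y⁻¹ = y := inv_eq_of_mul_eq_one_right (hA2 y hy)
    have h2 : (x * y)⁻¹ = x * y := inv_eq_of_mul_eq_one_right (hA2 _ (A.mul_mem hx hy))
    rw [mul_inv_rev, hx', hy'] at h2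
    exact h2.symm
  have hAp : IsPGroup 2 A := by
    intro x
    refine ⟨1, Subtype.ext ?_⟩
    show (x : X) ^ 2 ^ 1 = 1
    rw [pow_one, pow_two]
    exact hA2 x x.2
  -- `C_A(t)`
  have hfour : ∀ x ∈ A, x * t = t * x → Four z t x := by
    intro x hx hxt
    refine h.Yom x (h.in_of_abelian (N := A ⊓ centralizer ({t} : Set X)) ?_ (hAp.to_le inf_le_left) ?_ ?_ x
      ⟨hx, mem_centralizer_singleton_iff.2 hxt⟩) (hA2 x hx)
    · exact fun n hn => mem_centralizer_singleton_iff.1 hn.2
    · intro g hg n hn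
      refine ⟨hAn.conj_mem n hn.1 g, mem_centralizer_singleton_iff.2 ?_⟩
      have c1 : Commute g t := hg
      have c2 : Commute n t := mem_centralizer_singleton_iff.1 hn.2
      exact ((c1.mul_left c2).mul_left c1.inv_left).eq
    · exact fun x hx y hy => hab x hx.1 y hy.1
  by_cases htA : t ∈ A
  · -- `A = ⟨t, z⟩` is normal
    apply hJ
    have hall : ∀ x ∈ A, Four z t x := fun x hx => hfour x hx (hab x hx t htA)
    refine ⟨fun n hn g => ?_⟩
    apply h.conj_mem _ hn
    intro x hx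
    -- `g⁻¹ t g ∈ {t, t z}`
    have h1 : g⁻¹ * t * g ∈ A := by
      have := hAn.conj_mem t htA g⁻¹
      rwa [inv_inv] at this
    have h2 : Commute x (g⁻¹ * t * g) := by
      have c1 : Commute x t := hx
      have c2 : Commute x z := h.zc x
      rcases hall _ h1 with e | e | e | e <;> rw [e]
      · exact Commute.one_right x
      · exact c2
      · exact c1
      · exact c1.mul_right c2
    calc g * x * g⁻¹ * t = g * (x * (g⁻¹ * t * g)) * g⁻¹ := by group
      _ = g * ((g⁻¹ * t * g) * x) * g⁻¹ := by rw [h2.eq]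
      _ = t * (g * x * g⁻¹) := by group
  · have htzA : t * z ∉ A := by
      intro e
      apply htA
      have := A.mul_mem e hzA
      rwa [mul_assoc, h.zz, mul_one] at this
    have hfix : ∀ x ∈ A, x * t = t * x → x = 1 ∨ x = z := by
      intro x hx hxt
      rcases hfour x hx hxt with e | e | e | e
      · exact Or.inl e
      · exact Or.inr e
      · exact absurd (e ▸ hx) htA
      · exact absurd (e ▸ hx) htzA
    obtain ⟨v, hv, hvt⟩ := QThree.NI.exists_move h.tt hAp (fun b hb => hAn.conj_mem b hb t) hfix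
      ⟨w₀, hWA hw₀, hw1, hwz⟩
    obtain ⟨lam, hlam⟩ := QThree.NI.exists_lam_of_abelian h.tt h.zc h.zz h.z1 hAn hab hzA hfix hv hvt
    have h1 : lam t = 1 := by
      have h2 : _root_.commutator X ≤ lam.ker := Abelianization.commutator_subset_ker lam
      exact h2 h.com
    rw [h1] at hlam
    exact absurd hlam (by decide)

end Hyp

/-! ### in `G` -/

open Cfsg.Agent.OddHalf.Iface

universe u

/-- `O²(C_X(t))` is not normal in `X = C_G(z)` -/
theorem not_normal (hGW : SylowSp4.Hyps.GW.{u}) {G : Type u} [Group G] (C : Ctx G) {z : G} (hz : orderOf z = 2)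
    {t a : ↥(centralizer ({z} : Set G))} {Q : Subgroup ↥(centralizer ({z} : Set G))}
    (h : Hyp (⟨z, mem_centralizer_singleton_iff.2 rfl⟩ : ↥(centralizer ({z} : Set G))) t a Q) :
    ¬ (JJ t).Normal := by
  intro hn
  have hfin := C.fin
  set J : Subgroup G := (JJ t).map (centralizer ({z} : Set G)).subtype with hJ
  have hzJ : z ∈ J := ⟨(⟨z, mem_centralizer_singleton_iff.2 rfl⟩ : ↥(centralizer ({z} : Set G))), h.z_mem_JJ, rfl⟩
  have hJX : J.subgroupOf (centralizer ({z} : Set G)) = JJ t := comap_map_eq_self_of_injective (centralizer ({z} : Set G)).subtype_injective _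
  have hrk : PRankLE 2 1 ↥J := by
    by_contra hcon
    obtain ⟨U, hUJ, hU⟩ := Cfsg.Agent.S0520.exists_kleinFour hcon
    have h1 : (U : Set G) ⊆ ({1, z} : Set G) := by
      intro x hx
      have hxx : x * x = 1 := by
        have h2 := hU.exponent_two
        have h3 := Monoid.pow_exponent_eq_one (⟨x, hx⟩ : U)
        rw [h2] at h3
        have h4 : x ^ 2 = 1 := congrArg Subtype.val h3
        rwa [pow_two] at h4
      obtain ⟨y, hy, e⟩ := hUJ hx
      have e' : (y : G) = x := e
      rcases h.jz y hy (Subtype.ext (by show (y : G) * y = 1; rw [e']; exact hxx)) with e1 | e1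
      · left
        rw [← e', e1]; rfl
      · right
        rw [Set.mem_singleton_iff, ← e', e1]
    have h2 : Nat.card U ≤ 2 := by
      have := Set.ncard_le_ncard h1 (Set.toFinite _)
      exact this.trans ((Set.ncard_insert_le _ _).trans (by rw [Set.ncard_singleton]))
    have h3 : Nat.card U = 4 := hU.card_four
    omega
  have h1 : IsPGroup 2 ↥J := by
    refine Quat.isPGroup_of_classical hGW hz hzJ (map_subtype_le _) ?_ (C.bal z hz) hrk ?_
    · rw [hJX]; exact hn.isSubnormal
    · intro L hL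
      exact C.classical z L hz hL
  have h2 : (a : G) ∈ J := ⟨a, h.a_mem, rfl⟩
  have h3 : a = 1 := by
    apply eq_one_of_odd _ h.ao
    have h4 : IsPGroup 2 (zpowers (a : G)) := h1.to_le (zpowers_le.2 h2)
    obtain ⟨k, hk⟩ := h4 ⟨a, mem_zpowers _⟩
    have hk' : (a : G) ^ 2 ^ k = 1 := congrArg Subtype.val hk
    have hk2 : a ^ 2 ^ k = 1 := Subtype.ext hk'
    have : Fact (Nat.Prime 2) := ⟨Nat.prime_two⟩
    obtain ⟨m, -, hm⟩ := (Nat.dvd_prime_pow Nat.prime_two).1 (orderOf_dvd_of_pow_eq_one hk2)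
    exact IsPGroup.of_card (n := m) (by rw [Nat.card_zpowers, hm])
  obtain ⟨q, hq, hq1, hqz⟩ := h.s.exists_ne
  apply h.s.act q hq hq1 hqz
  rw [h3]
  group

end Cfsg.Agent.OddHalf.D6.RThree

end
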