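import Cfsg.Agent.OddHalf.Front.OfSheet
import Cfsg.Agent.OddHalf.D6.RThree.Facts
import Cfsg.Agent.OddHalf.D6.QThree.Outer
import Cfsg.Agent.OddHalf.D6.QThree.NISolv
import Cfsg.Agent.OddHalf.D6.QThree.NI
import Cfsg.Agent.Lib.NormalAbelian

-- merged: Cfsg.Agent.OddHalf.D6.RThree.CycW
section

/-!
# ODD half, D6, `L₃(3)`, `U₃(3)`: the front end, after helper971's `Front.CycT` (helper783)

As `Front.CycT` with `P1` only for involutions (`Z(S_K)` cyclic), any `|Q|`.
-/

set_option autoImplicit false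

namespace Cfsg.Agent.OddHalf.D6.RThree.CycW

open Subgroup Cfsg.Agent.OddHalf.Front Cfsg.Agent.OddHalf.Front.FE
open Cfsg.Agent.OddHalf.Front.Cyclic hiding Facts
open Cfsg.Agent.OddHalf.Front.CycT (exists_index_two mem_C mem_sup_comm Q2_le sq_mem_Q2 Q2_or q_notMem_Q2
  q_mem_of conjQ2 mem_M2)

universe u

variable {G : Type u} [Group G]

/-- the position of the nodes with `Z(S_K)` cyclic -/
structure Facts (K : Subgroup G) (t q z : G) (T : Subgroup G) : Prop extends Start K t q where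
  pT : IsPGroup 2 ↥T
  tc : ∀ x ∈ T, x * t = t * x
  max : ∀ P : Subgroup G, IsPGroup 2 ↥P → T ≤ P → (∀ x ∈ P, x * t = t * x) → P ≤ T
  z1 : z ≠ 1
  zT : z ∈ T
  zK : z ∈ K
  zS : ∀ x ∈ T, x ∈ K → x * z = z * x
  zz : z * z = 1
  /-- `z` is the only involution of `Z(S)` -/
  P1 : ∀ y ∈ T, y ∈ K → y * y = 1 → (∀ x ∈ T, x ∈ K → x * y = y * x) → y = 1 ∨ y = z
  /-- no outer 2-element centralizes `S` -/
  T1s : ∀ y : G, y * t = t * y → IsPGroup 2 ↥(zpowers y) → (∀ x ∈ T, x ∈ K → x * y = y * x) →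
    y ∈ zpowers q ⊔ K
  /-- `|T : T ∩ QK| ≤ 2` -/
  idx : ∀ a ∈ T, ∀ b ∈ T, a ∉ zpowers q ⊔ K → b ∉ zpowers q ⊔ K → a * b⁻¹ ∈ zpowers q ⊔ K
  /-- `z` is isolated in `⟨t, z⟩` -/
  iso : ∀ g : G, (g * t * g⁻¹ = t ∨ g * t * g⁻¹ = z ∨ g * t * g⁻¹ = t * z) →
    (g * z * g⁻¹ = t ∨ g * z * g⁻¹ = z ∨ g * z * g⁻¹ = t * z) → g * z * g⁻¹ = z

namespace Facts

variable {K : Subgroup G} {t q z : G} {T : Subgroup G}

/-- `T` as a Sylow subgroup of `C(t)` -/
theorem exists_sylow (F : Facts K t q z T) :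
    ∃ TS : Sylow 2 ↥(centralizer ({t} : Set G)),
      (TS : Subgroup ↥(centralizer ({t} : Set G))) = T.subgroupOf (centralizer ({t} : Set G)) := by
  set C : Subgroup G := centralizer ({t} : Set G) with hC
  have hTC : T ≤ C := fun x hx => mem_centralizer_singleton_iff.2 (F.tc x hx)
  refine ⟨{ toSubgroup := T.subgroupOf C
            isPGroup' := F.pT.comap_of_injective C.subtype C.subtype_injective
            is_maximal' := ?_ }, rfl⟩
  intro R hR hle
  apply le_antisymm _ hle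
  have h1 : R.map C.subtype ≤ T := by
    apply F.max
    · exact hR.map C.subtype
    · intro y hy
      exact ⟨⟨y, hTC hy⟩, hle (by exact hy), rfl⟩
    · rintro _ ⟨y, -, rfl⟩
      exact mem_centralizer_singleton_iff.1 y.2
  intro y hy
  exact h1 ⟨y, hy, rfl⟩

theorem zpowers_le_T (F : Facts K t q z T) : zpowers q ≤ T := by
  have hle : T ≤ normalizer ((zpowers q : Subgroup G) : Set G) := by
    intro x hx
    have hxt := F.tc x hx
    rw [mem_normalizer_iff]
    intro y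
    constructor
    · exact fun hy => conjQ F.toStart0 hxt hy
    · intro hy
      have h1 := conjQ F.toStart0 (inv_comm hxt) hy
      have h2 : x⁻¹ * (x * y * x⁻¹) * x⁻¹⁻¹ = y := by group
      rwa [h2] at h1
  have h1 : IsPGroup 2 ↥(T ⊔ zpowers q : Subgroup G) := F.pT.to_sup_of_normal_right' F.pQ hle
  have h2 : ∀ x ∈ T ⊔ zpowers q, x * t = t * x := by
    have : T ⊔ zpowers q ≤ centralizer ({t} : Set G) := by
      rw [sup_le_iff]
      exact ⟨fun x hx => mem_centralizer_singleton_iff.2 (F.tc x hx),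
        fun x hx => mem_centralizer_singleton_iff.2 (F.Qt x hx)⟩
    intro x hx
    exact mem_centralizer_singleton_iff.1 (this hx)
  exact le_sup_right.trans (F.max _ h1 le_sup_left h2)

theorem tT (F : Facts K t q z T) : t ∈ T := F.zpowers_le_T F.tQ

/-- `z` is central in `T` -/
theorem zc (F : Facts K t q z T) : ∀ x ∈ T, x * z = z * x := by
  intro x hx
  have hxt := F.tc x hx
  have h1 : x * z * x⁻¹ = 1 ∨ x * z * x⁻¹ = z := by
    apply F.P1
    · exact T.mul_mem (T.mul_mem hx F.zT) (T.inv_mem hx)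
    · exact conjK F.toStart0 hxt F.zK
    · have : x * z * x⁻¹ * (x * z * x⁻¹) = x * (z * z) * x⁻¹ := by group
      rw [this, F.zz]; group
    · intro y hy hyK
      have h2 := F.zS (x⁻¹ * y * x) (T.mul_mem (T.mul_mem (T.inv_mem hx) hy) hx)
        (conjK' F.toStart0 hxt hyK)
      calc y * (x * z * x⁻¹) = x * (x⁻¹ * y * x * z) * x⁻¹ := by group
        _ = x * (z * (x⁻¹ * y * x)) * x⁻¹ := by rw [h2]
        _ = x * z * x⁻¹ * y := by group
  rcases h1 with h1 | h1
  · exfalso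
    apply F.z1
    have : z = x⁻¹ * (x * z * x⁻¹) * x := by group
    rw [this, h1]; group
  · rwa [mul_inv_eq_iff_eq_mul] at h1

theorem z_ne_t (F : Facts K t q z T) : z ≠ t := by
  rintro rfl
  exact F.t1 (KQ F.toStart F.zK F.tQ)

/-- `S = T ∩ K` is a Sylow subgroup of `K` -/
theorem inf_max [Finite G] (F : Facts K t q z T) {P : Subgroup G} (hP : IsPGroup 2 ↥P) (hPK : P ≤ K)
    (hSP : T ⊓ K ≤ P) : P ≤ T := by
  set C : Subgroup G := centralizer ({t} : Set G) with hC
  obtain ⟨TS, hTS⟩ : ∃ TS : Sylow 2 ↥C, (TS : Subgroup ↥C) = T.subgroupOf C := F.exists_sylow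
  have hTC : T ≤ C := fun x hx => mem_centralizer_singleton_iff.2 (F.tc x hx)
  have hKC : K ≤ C := fun x hx => mem_centralizer_singleton_iff.2 (F.Kt x hx)
  have hn : (K.subgroupOf C).Normal := by
    refine ⟨fun x hx g => ?_⟩
    rw [mem_subgroupOf] at hx ⊢
    exact conjK F.toStart0 (mem_centralizer_singleton_iff.1 g.2) hx
  have h1 := Cfsg.Agent.Lib.SylowNormalInf.not_dvd_relIndex TS (K.subgroupOf C)
  rw [hTS, relIndex_subgroupOf hKC, ← inf_relIndex_right] at h1
  have h2 := relIndex_mul_relIndex (T ⊓ K) P K hSP hPK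
  have h3 : ¬ 2 ∣ (T ⊓ K).relIndex P := fun h => h1 (h2 ▸ h.mul_right _)
  have h4 : (T ⊓ K).relIndex P = 1 := by
    obtain ⟨n, hn⟩ := IsPGroup.iff_card.1 hP
    have h5 : (T ⊓ K).relIndex P ∣ 2 ^ n := by
      rw [← hn]
      exact relIndex_dvd_card _ _
    obtain ⟨m, -, hm⟩ := (Nat.dvd_prime_pow Nat.prime_two).1 h5
    rw [hm]
    rw [hm] at h3
    rcases Nat.eq_zero_or_pos m with h | h
    · rw [h, pow_zero]
    · exact absurd (dvd_pow_self 2 h.ne') h3
  exact (relIndex_eq_one.1 h4).trans inf_le_left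

/-- an involution of `K` that centralizes `S` is `1` or `z` -/
theorem cent_S_K [Finite G] (F : Facts K t q z T) {k : G} (hk : k ∈ K) (hkk : k * k = 1)
    (hc : ∀ x ∈ T, x ∈ K → x * k = k * x) : k = 1 ∨ k = z := by
  have hp : IsPGroup 2 ↥(zpowers k) := TR.Frame.isPGroup_zpowers hkk
  have hkn : zpowers k ≤ normalizer ((T ⊓ K : Subgroup G) : Set G) := by
    rw [zpowers_le, mem_normalizer_iff]
    intro y
    constructor
    · rintro ⟨hy, hyK⟩
      have h1 : k * y * k⁻¹ = y := by rw [← hc y hy hyK]; group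
      rw [h1]; exact ⟨hy, hyK⟩
    · rintro ⟨hy, hyK⟩
      have h1 : k * y * k⁻¹ * k = k * (k * y * k⁻¹) := hc _ hy hyK
      have h2 : y = k * y * k⁻¹ := by
        have h3 : k * y = k * (k * y * k⁻¹) := by rw [← h1]; group
        exact mul_left_cancel h3
      rw [h2]; exact ⟨hy, hyK⟩
  have hSp : IsPGroup 2 ↥(T ⊓ K : Subgroup G) := F.pT.to_le inf_le_left
  have h1 : IsPGroup 2 ↥(zpowers k ⊔ (T ⊓ K) : Subgroup G) := hp.to_sup_of_normal_right' hSp hkn
  have h2 : zpowers k ⊔ (T ⊓ K) ≤ K := by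
    rw [sup_le_iff, zpowers_le]
    exact ⟨hk, inf_le_right⟩
  have h3 := F.inf_max h1 h2 le_sup_right
  have h4 : k ∈ T := h3 ((le_sup_left : zpowers k ≤ _) (mem_zpowers k))
  exact F.P1 k h4 hk hkk hc

/-- an involution of `QK` that centralizes `S` -/
theorem cent_S_M [Finite G] (F : Facts K t q z T) {y : G} (hy : y ∈ zpowers q ⊔ K) (hyy : y * y = 1)
    (hc : ∀ x ∈ T, x ∈ K → x * y = y * x) : y = 1 ∨ y = t ∨ y = z ∨ y = t * z := by
  obtain ⟨a, ha, k, hk, rfl⟩ := (mem_M F.toStart0).1 hy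
  have h1 : (a * a) * (k * k) = 1 * 1 := by
    rw [mul_one]
    calc a * a * (k * k) = a * (a * k) * k := by group
      _ = a * (k * a) * k := by rw [F.QK a ha k hk]
      _ = a * k * (a * k) := by group
      _ = 1 := hyy
  obtain ⟨h2, h3⟩ := M_unique F.toStart (mul_mem ha ha) (one_mem _) (mul_mem hk hk) (one_mem _) h1
  have h4 : k = 1 ∨ k = z := by
    apply F.cent_S_K hk h3
    intro x hx hxK
    have h5 := hc x hx hxK
    have h6 := F.QK a ha x hxK
    have h7 : a * (x * k) = a * (k * x) := by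
      calc a * (x * k) = (a * x) * k := by group
        _ = x * a * k := by rw [h6]
        _ = x * (a * k) := by group
        _ = a * k * x := h5
        _ = a * (k * x) := by group
    exact mul_left_cancel h7
  have h5 : a = 1 ∨ a = t := by
    by_cases h : a = 1
    · exact Or.inl h
    · exact Or.inr (F.uniq ha h2 h)
  rcases h4 with rfl | rfl <;> rcases h5 with rfl | rfl
  · left; group
  · right; left; group
  · right; right; left; group
  · right; right; right; rfl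

theorem cent_S [Finite G] (F : Facts K t q z T) {y : G} (hyt : y * t = t * y) (hyy : y * y = 1)
    (hc : ∀ x ∈ T, x ∈ K → x * y = y * x) : y = 1 ∨ y = t ∨ y = z ∨ y = t * z :=
  F.cent_S_M (F.T1s y hyt (TR.Frame.isPGroup_zpowers hyy) hc) hyy hc

/-- **the frame** -/
theorem frame [Finite G] (F : Facts K t q z T) : TR.Frame t z T where
  tt := F.tt
  zz := F.zz
  t1 := F.t1
  z1 := F.z1
  ne := F.z_ne_t
  pT := F.pT
  tT := F.tT
  tc := F.tc
  zT := F.zT
  zc := F.zc
  max := F.max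
  om := by
    intro y hy hc hyy
    exact F.cent_S (F.tc y hy) hyy fun x hx _ => hc x hx
  iso := F.iso

end Facts

variable {K : Subgroup G} {t q z : G} {T : Subgroup G}

/-- if `T` is a Sylow subgroup of `G` then `N(T)` centralizes `t` -/
theorem no_swap [Finite G] (F : Facts K t q z T) (S : Sylow 2 G) (hST : (S : Subgroup G) = T) {g : G}
    (hgN : g ∈ normalizer (T : Set G)) : g * t * g⁻¹ = t := by
  have Fr := F.frame
  have hmem : ∀ y, y ∈ (S : Subgroup G) → y ∈ T := by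
    intro y hy
    rwa [hST] at hy
  obtain ⟨hz, h1 | h1⟩ := Fr.act hgN
  · exact h1
  · exfalso
    obtain ⟨k, m, hm, hk⟩ := Nat.exists_eq_two_pow_mul_odd (orderOf_pos g).ne'
    set x := g ^ m with hx
    have hxp : IsPGroup 2 (zpowers x) := by
      apply IsPGroup.of_card (n := k)
      rw [Nat.card_zpowers, hx, orderOf_pow, hk, Nat.gcd_mul_left_left,
        Nat.mul_div_cancel _ hm.pos]
    have hxN : x ∈ normalizer (T : Set G) := pow_mem hgN m
    have hxT : x ∈ T := by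
      apply hmem
      have h2 : IsPGroup 2 ((zpowers x ⊔ T : Subgroup G)) :=
        hxp.to_sup_of_normal_right' F.pT (by rw [zpowers_le]; exact hxN)
      have h3 := S.is_maximal' h2 (by rw [hST]; exact le_sup_right)
      show x ∈ (S : Subgroup G)
      rw [← h3]
      exact (le_sup_left : zpowers x ≤ _) (mem_zpowers x)
    have hxt := F.tc x hxT
    have hg2t : Commute (g * g) t := by
      show g * g * t = t * (g * g)
      rw [← mul_inv_eq_iff_eq_mul]
      calc g * g * t * (g * g)⁻¹ = g * (g * t * g⁻¹) * g⁻¹ := by group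
        _ = g * (t * z) * g⁻¹ := by rw [h1]
        _ = (g * t * g⁻¹) * (g * z * g⁻¹) := by group
        _ = t := by rw [h1, hz, mul_assoc, F.zz, mul_one]
    obtain ⟨j, hj⟩ := hm
    have hx' : x = (g * g) ^ j * g := by
      rw [hx, hj, pow_succ, pow_mul, pow_two]
    have h4 : Commute ((g * g) ^ j) t := hg2t.pow_left j
    have h5 : Commute ((g * g) ^ j * g) t := by
      rw [← hx']; exact hxt
    have h6 : Commute g t := by
      have := h4.inv_left.mul_left h5
      rwa [inv_mul_cancel_left] at this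
    have h7 : g * t * g⁻¹ = t := by rw [h6.eq]; group
    rw [h7] at h1
    exact F.z1 (mul_eq_left.1 h1.symm)

/-- if `T` is a Sylow subgroup of `G`, then `t` is the only conjugate of `t` commuting with `T` -/
theorem burn [Finite G] (F : Facts K t q z T) (S : Sylow 2 G) (hST : (S : Subgroup G) = T) {g : G}
    (hg : ∀ x ∈ T, x * (g * t * g⁻¹) = g * t * g⁻¹ * x) : g * t * g⁻¹ = t := by
  have hmem : ∀ y, y ∈ (S : Subgroup G) → y ∈ T := by
    intro y hy
    rwa [hST] at hy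
  have h1 : t ∈ centralizer ((S : Subgroup G) : Set G) :=
    mem_centralizer_iff.2 fun x hx => F.tc x (hmem x hx)
  have h2 : g⁻¹⁻¹ * t * g⁻¹ ∈ centralizer ((S : Subgroup G) : Set G) := by
    rw [inv_inv]
    exact mem_centralizer_iff.2 fun x hx => hg x (hmem x hx)
  obtain ⟨n, hn, hnt⟩ := S.conj_eq_normalizer_conj_of_mem_centralizer t g⁻¹ h1 h2
  rw [inv_inv] at hnt
  rw [hnt]
  have hn' : n⁻¹ ∈ normalizer (T : Set G) := by
    have h3 : n⁻¹ ∈ normalizer ((S : Subgroup G) : Set G) := inv_mem hn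
    rwa [hST] at h3
  have h4 := no_swap F S hST hn'
  rwa [inv_inv] at h4

/-- in case B an element of `T` commuting with `q` lies in `QK` -/
theorem mem_of_comm (F : Facts K t q z T) (hB : (⟨t, F.tT⟩ : ↥T) ∈ commutator ↥T) {c : G}
    (hc : c ∈ T) (hcq : c * q = q * c) : c ∈ zpowers q ⊔ K := by
  by_contra hcM
  -- `q` is central in `T`
  have hq : ∀ x ∈ T, x * q = q * x := by
    intro x hx
    by_cases hxM : x ∈ zpowers q ⊔ K
    · exact M_comm_q F.toStart0 hxM
    · have h1 := M_comm_q F.toStart0 (F.idx x hx c hc hxM hcM)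
      have h2 := mul_comm' h1 hcq
      rwa [inv_mul_cancel_right] at h2
  have hQ : ∀ a ∈ zpowers q, ∀ x ∈ T, x * a = a * x := by
    intro a ha x hx
    obtain ⟨m, rfl⟩ := mem_zpowers_iff.1 ha
    exact (show Commute x q from hq x hx).zpow_right m
  have hM : ∀ x ∈ T, x ∈ zpowers q ⊔ K → ∀ y ∈ T, x * y * x⁻¹ * y⁻¹ ∈ K := by
    intro x hxT hx y hyT
    obtain ⟨a, ha, k, hk, rfl⟩ := (mem_M F.toStart0).1 hx
    have hkT : k ∈ T := by
      have : k = a⁻¹ * (a * k) := by group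
      rw [this]
      exact mul_mem (inv_mem (F.zpowers_le_T ha)) hxT
    have h1 : a * k * y * (a * k)⁻¹ * y⁻¹ = k * (y * k⁻¹ * y⁻¹) := by
      have h2 : a⁻¹ * y⁻¹ = y⁻¹ * a⁻¹ := (hQ a⁻¹ (inv_mem ha) y⁻¹ (inv_mem hyT)).symm
      have h3 : k * y * k⁻¹ * y⁻¹ * a⁻¹ = a⁻¹ * (k * y * k⁻¹ * y⁻¹) := by
        apply hQ a⁻¹ (inv_mem ha)
        exact mul_mem (mul_mem (mul_mem hkT hyT) (inv_mem hkT)) (inv_mem hyT)
      calc a * k * y * (a * k)⁻¹ * y⁻¹ = a * k * y * k⁻¹ * (a⁻¹ * y⁻¹) := by group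
        _ = a * (k * y * k⁻¹ * y⁻¹ * a⁻¹) := by rw [h2]; group
        _ = a * (a⁻¹ * (k * y * k⁻¹ * y⁻¹)) := by rw [h3]
        _ = k * (y * k⁻¹ * y⁻¹) := by group
    rw [h1]
    exact mul_mem hk (conjK F.toStart0 (F.tc y hyT) (inv_mem hk))
  have hcomm : ∀ x ∈ T, ∀ y ∈ T, x * y * x⁻¹ * y⁻¹ ∈ K := by
    intro x hx y hy
    by_cases hxM : x ∈ zpowers q ⊔ K
    · exact hM x hx hxM y hy
    by_cases hyM : y ∈ zpowers q ⊔ K
    · have h1 := inv_mem (hM y hy hyM x hx)
      have : (y * x * y⁻¹ * x⁻¹)⁻¹ = x * y * x⁻¹ * y⁻¹ := by group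
      rwa [this] at h1
    · have h1 := hM _ (mul_mem hx (inv_mem hy)) (F.idx x hx y hy hxM hyM) y hy
      have : x * y⁻¹ * y * (x * y⁻¹)⁻¹ * y⁻¹ = x * y * x⁻¹ * y⁻¹ := by group
      rwa [this] at h1
  have hle : commutator ↥T ≤ K.subgroupOf T := by
    rw [commutator_def, commutator_le]
    rintro ⟨x, hx⟩ - ⟨y, hy⟩ -
    rw [mem_subgroupOf]
    exact hcomm x hx y hy
  have h1 : t ∈ K := mem_subgroupOf.1 (hle hB)
  exact F.t1 (KQ F.toStart h1 F.tQ)

/-- commutators with elements of `QK` lie in `⟨q²⟩K` -/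
theorem comm_M (F : Facts K t q z T) {c d : G} (hc : c ∈ zpowers q ⊔ K) (hd : d * t = t * d) :
    c * d * c⁻¹ * d⁻¹ ∈ zpowers (q ^ 2) ⊔ K := by
  obtain ⟨a, ha, k, hk, rfl⟩ := (mem_M F.toStart0).1 hc
  have h1 : a * k * d * (a * k)⁻¹ * d⁻¹ =
      (a * (d * a⁻¹ * d⁻¹)) * (k * (d * k⁻¹ * d⁻¹)) := by
    have h2 : d * a⁻¹ * d⁻¹ ∈ zpowers q := conjQ F.toStart0 hd (inv_mem ha)
    have h3 : k * (d * k⁻¹ * d⁻¹) ∈ K := mul_mem hk (conjK F.toStart0 hd (inv_mem hk))
    have h4 := F.QK _ h2 _ h3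
    have h5 : (a * k)⁻¹ = k⁻¹ * a⁻¹ := mul_inv_rev a k
    calc a * k * d * (a * k)⁻¹ * d⁻¹ = a * (k * (d * k⁻¹ * d⁻¹) * (d * a⁻¹ * d⁻¹)) := by
          rw [h5]; group
      _ = a * (d * a⁻¹ * d⁻¹ * (k * (d * k⁻¹ * d⁻¹))) := by rw [h4]
      _ = _ := by group
  rw [h1]
  refine (mem_M2 F.toStart0).2 ⟨_, ?_, _, mul_mem hk (conjK F.toStart0 hd (inv_mem hk)), rfl⟩
  have h6 : d * a⁻¹ * d⁻¹ = (d * a * d⁻¹)⁻¹ := by group
  rw [h6]
  by_cases ha2 : a ∈ zpowers (q ^ 2)
  · exact mul_mem ha2 (inv_mem (conjQ2 F.toStart0 hd ha2))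
  · have h7 : d * a * d⁻¹ ∉ zpowers (q ^ 2) := by
      intro h
      apply ha2
      have h8 := conjQ2 F.toStart0 (inv_comm hd) h
      have h9 : d⁻¹ * (d * a * d⁻¹) * d⁻¹⁻¹ = a := by group
      rwa [h9] at h8
    have h8 := (Q2_or ha).resolve_left ha2
    have h9 := (Q2_or (conjQ F.toStart0 hd ha)).resolve_left h7
    have h10 : a * (d * a * d⁻¹)⁻¹ = a * q⁻¹ * (d * a * d⁻¹ * q⁻¹)⁻¹ := by group
    rw [h10]
    exact mul_mem h8 (inv_mem h9)

theorem comm_T (F : Facts K t q z T) {c d : G} (hc : c ∈ T) (hd : d ∈ T) :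
    c * d * c⁻¹ * d⁻¹ ∈ zpowers (q ^ 2) ⊔ K := by
  by_cases hcM : c ∈ zpowers q ⊔ K
  · exact comm_M F hcM (F.tc d hd)
  by_cases hdM : d ∈ zpowers q ⊔ K
  · have h1 := inv_mem (comm_M F hdM (F.tc c hc))
    have : (d * c * d⁻¹ * c⁻¹)⁻¹ = c * d * c⁻¹ * d⁻¹ := by group
    rwa [this] at h1
  · have h1 := comm_M F (F.idx c hc d hd hcM hdM) (F.tc d hd)
    have : c * d⁻¹ * d * (c * d⁻¹)⁻¹ * d⁻¹ = c * d * c⁻¹ * d⁻¹ := by group
    rwa [this] at h1

/-- squares of elements of `T` lie in `⟨q²⟩K` (case B) -/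
theorem sq_T [Finite G] (F : Facts K t q z T) (hB : (⟨t, F.tT⟩ : ↥T) ∈ commutator ↥T) {c : G}
    (hcT : c ∈ T) : c * c ∈ zpowers (q ^ 2) ⊔ K := by
  have hc := F.tc c hcT
  by_cases hcM : c ∈ zpowers q ⊔ K
  · obtain ⟨a, ha, k, hk, rfl⟩ := (mem_M F.toStart0).1 hcM
    refine (mem_M2 F.toStart0).2 ⟨a * a, sq_mem_Q2 ha, k * k, mul_mem hk hk, ?_⟩
    calc a * k * (a * k) = a * (k * a) * k := by group
      _ = a * (a * k) * k := by rw [F.QK a ha k hk]
      _ = a * a * (k * k) := by group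
  · have hcM' : c⁻¹ ∉ zpowers q ⊔ K := fun h => hcM (inv_mem_iff.1 h)
    have h1 := F.idx c hcT c⁻¹ (inv_mem hcT) hcM hcM'
    rw [inv_inv] at h1
    obtain ⟨a, ha, k, hk, hak⟩ := (mem_M F.toStart0).1 h1
    have h2 : (c * a * c⁻¹) * (c * k * c⁻¹) = a * k := by
      calc (c * a * c⁻¹) * (c * k * c⁻¹) = c * (a * k) * c⁻¹ := by group
        _ = c * (c * c) * c⁻¹ := by rw [hak]
        _ = a * k := by rw [← hak]; group
    obtain ⟨h3, -⟩ := M_unique F.toStart (conjQ F.toStart0 hc ha) ha (conjK F.toStart0 hc hk) hk h2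
    rw [mul_inv_eq_iff_eq_mul] at h3
    have ha2 : a ∈ zpowers (q ^ 2) := by
      by_contra ha2
      have h4 := q_mem_of F.toStart0 ha ha2
      apply hcM
      apply mem_of_comm F hB hcT
      obtain ⟨m, hm⟩ := mem_zpowers_iff.1 h4
      rw [← hm]
      exact (show Commute c a from h3).zpow_right m
    rw [hak]
    exact (mem_M2 F.toStart0).2 ⟨a, ha2, k, hk, rfl⟩

theorem q_notMem_M2 [Finite G] (F : Facts K t q z T) : q ∉ zpowers (q ^ 2) ⊔ K := by
  intro h
  obtain ⟨a, ha, k, hk, hak⟩ := (mem_M2 F.toStart0).1 h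
  have h1 : q * 1 = a * k := by rw [mul_one]; exact hak
  obtain ⟨h2, -⟩ := M_unique F.toStart (mem_zpowers q) (Q2_le ha) (one_mem _) hk h1
  apply q_notMem_Q2 F.toStart0
  have h3 := ha
  rwa [← h2] at h3

/-- the sign of `C(t)` with value `-1` at `q` (case B) -/
theorem exists_sign [Finite G] (F : Facts K t q z T) (hB : (⟨t, F.tT⟩ : ↥T) ∈ commutator ↥T)
    (hqC : q ∈ centralizer ({t} : Set G)) :
    ∃ φ : ↥(centralizer ({t} : Set G)) →* ℤˣ, φ ⟨q, hqC⟩ = -1 := by
  classical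
  have hqT : q ∈ T := F.zpowers_le_T (mem_zpowers q)
  obtain ⟨N, hN, hqN, hle⟩ := exists_index_two (X := ↥T) (N0 := (zpowers (q ^ 2) ⊔ K).subgroupOf T)
    (q := ⟨q, hqT⟩)
    (fun c => mem_subgroupOf.2 (sq_T F hB c.2))
    (fun c d => mem_subgroupOf.2 (comm_T F c.2 d.2))
    (fun h => q_notMem_M2 F (mem_subgroupOf.1 h))
  have hTC : T ≤ centralizer ({t} : Set G) := fun x hx => mem_centralizer_singleton_iff.2 (F.tc x hx)
  set ψ : ↥T →* ℤˣ := Cfsg.Agent.TwoFusion.IndexTwo.signHom N hN with hψ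
  set T' : Subgroup ↥(centralizer ({t} : Set G)) := T.subgroupOf (centralizer ({t} : Set G)) with hT'
  let ψ' : ↥T' →* ℤˣ := ψ.comp (subgroupOfEquivOfLe hTC).toMonoidHom
  refine ⟨Cfsg.Agent.StdSpSix.TR.tr ψ', ?_⟩
  have : Fintype (↥(centralizer ({t} : Set G)) ⧸ T') := Fintype.ofFinite _
  rw [Cfsg.Agent.StdSpSix.TR.tr_apply]
  have hval : ∀ c : ↥(centralizer ({t} : Set G)) ⧸ T',
      ψ' (Cfsg.Agent.StdSpSix.TR.coc T' ⟨q, hqC⟩ c) = -1 := by
    intro c
    set g : ↥(centralizer ({t} : Set G)) := c.out with hg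
    have hgt : (g : G) * t = t * g := mem_centralizer_singleton_iff.1 g.2
    have hy : (g : G)⁻¹ * q * g ∈ zpowers q := by
      have := conjQ F.toStart0 (inv_comm hgt) (mem_zpowers q)
      rwa [inv_inv] at this
    have hfix : (⟨q, hqC⟩ : ↥(centralizer ({t} : Set G))) • c = c := by
      conv_lhs => rw [← QuotientGroup.out_eq' c]
      conv_rhs => rw [← QuotientGroup.out_eq' c]
      rw [MulAction.Quotient.smul_mk, smul_eq_mul, eq_comm, QuotientGroup.eq]
      refine mem_subgroupOf.2 ?_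
      show (g : G)⁻¹ * (q * g) ∈ T
      rw [← mul_assoc]
      exact F.zpowers_le_T hy
    have hcoc : ((Cfsg.Agent.StdSpSix.TR.coc T' ⟨q, hqC⟩ c : ↥(centralizer ({t} : Set G))) : G) =
        (g : G)⁻¹ * q * g := by
      rw [Cfsg.Agent.StdSpSix.TR.coc_coe, hfix]
      show (g : G)⁻¹ * (q * g) = _
      rw [mul_assoc]
    have hyT : (g : G)⁻¹ * q * g ∈ T := F.zpowers_le_T hy
    have h1 : ψ' (Cfsg.Agent.StdSpSix.TR.coc T' ⟨q, hqC⟩ c) = ψ ⟨(g : G)⁻¹ * q * g, hyT⟩ := by
      show ψ ((subgroupOfEquivOfLe hTC) _) = _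
      congr 1
      exact Subtype.ext hcoc
    rw [h1]
    apply Cfsg.Agent.TwoFusion.IndexTwo.signHom_of_not_mem hN
    intro hmem
    apply hqN
    have h2 : (g : G)⁻¹ * q * g ∉ zpowers (q ^ 2) := by
      intro h
      apply q_notMem_Q2 F.toStart0
      have h3 := conjQ2 F.toStart0 hgt h
      have h4 : (g : G) * ((g : G)⁻¹ * q * g) * (g : G)⁻¹ = q := by group
      rwa [h4] at h3
    have h3 := (Q2_or hy).resolve_left h2
    have h4 : (⟨(g : G)⁻¹ * q * g * q⁻¹, mul_mem hyT (inv_mem hqT)⟩ : ↥T) ∈ N :=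
      hle (mem_subgroupOf.2 ((le_sup_left : zpowers (q ^ 2) ≤ _) h3))
    have h5 : (⟨q, hqT⟩ : ↥T) =
        (⟨(g : G)⁻¹ * q * g * q⁻¹, mul_mem hyT (inv_mem hqT)⟩ : ↥T)⁻¹ * ⟨(g : G)⁻¹ * q * g, hyT⟩ := by
      apply Subtype.ext
      show q = ((g : G)⁻¹ * q * g * q⁻¹)⁻¹ * ((g : G)⁻¹ * q * g)
      group
    rw [h5]
    exact mul_mem (inv_mem h4) hmem
  rw [Finset.prod_congr rfl (fun c _ => hval c), Finset.prod_const]
  obtain ⟨TS, hTS⟩ := F.exists_sylow
  have hodd : Odd (Finset.univ : Finset (↥(centralizer ({t} : Set G)) ⧸ T')).card := by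
    rw [Finset.card_univ, ← Nat.card_eq_fintype_card]
    have h1 := TS.not_dvd_index
    rw [hTS] at h1
    rw [← Nat.not_even_iff_odd, even_iff_two_dvd]
    exact h1
  exact hodd.neg_one_pow

/-- **Case B**: `t ∈ [T, T]`: transfer of the generator `q` of `Q`. -/
theorem not_sylow_B [Finite G] (F : Facts K t q z T) (hG : ∀ H : Subgroup G, H.index ≠ 2)
    (hB : (⟨t, F.tT⟩ : ↥T) ∈ commutator ↥T) (S : Sylow 2 G) : (S : Subgroup G) ≠ T := by
  intro hST
  set C : Subgroup G := centralizer ({t} : Set G) with hC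
  have hQC : zpowers q ≤ C := fun x hx => mem_centralizer_singleton_iff.2 (F.Qt x hx)
  have hqC : q ∈ C := hQC (mem_zpowers q)
  have hTC : T ≤ C := fun x hx => mem_centralizer_singleton_iff.2 (F.tc x hx)
  -- the sign
  obtain ⟨φ, hφq⟩ := exists_sign F hB hqC
  -- the group `D = Q S`
  set D : Subgroup G := zpowers q ⊔ (T ⊓ K) with hD
  have hDT : D ≤ T := sup_le F.zpowers_le_T inf_le_left
  have hDq : ∀ d ∈ D, d * q = q * d := by
    intro d hd
    exact M_comm_q F.toStart0 ((sup_le_sup_left inf_le_right (zpowers q)) hd)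
  have h1 := OrbitTransfer.transfer_eq_single C φ q D (F.pT.to_le hDT) hDq hqC (hDT.trans hTC) ?_
  · rw [hφq, TR.Frame.hom_eq_one hG] at h1
    exact absurd h1 (by decide)
  intro g hg hfix k hk h
  by_cases hqk : q ^ k = 1
  · have : (⟨g⁻¹ * q ^ k * g, h⟩ : ↥C) = 1 := by
      apply Subtype.ext
      show g⁻¹ * q ^ k * g = 1
      rw [hqk]; group
    rw [this, map_one]
  exfalso
  set t' : G := g * t * g⁻¹ with ht'
  have ht't' : t' * t' = 1 := by
    calc t' * t' = g * (t * t) * g⁻¹ := by rw [ht']; group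
      _ = 1 := by rw [F.tt]; group
  -- `t'` commutes with `t`
  have h2 : q ^ k * t' = t' * q ^ k := mem_C.1 h
  have h3 : t ∈ zpowers (q ^ k) := t_mem F.toStart0 (pow_mem (mem_zpowers q) k) hqk
  have h4 : t' * t = t * t' := by
    obtain ⟨m, hm⟩ := mem_zpowers_iff.1 h3
    rw [← hm]
    exact ((show Commute (q ^ k) t' from h2).zpow_left m).eq.symm
  -- `t'` commutes with `S`
  have h5 : ∀ x ∈ T, x ∈ K → x * t' = t' * x := by
    intro x hx hxK
    obtain ⟨m, hm⟩ := hfix x ((le_sup_right : T ⊓ K ≤ D) ⟨hx, hxK⟩)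
    have h6 : q ^ m * x * t' = t' * (q ^ m * x) := mem_C.1 hm
    have h7 : (t' * q ^ m * t'⁻¹) * (t' * x * t'⁻¹) = q ^ m * x := by
      calc (t' * q ^ m * t'⁻¹) * (t' * x * t'⁻¹) = t' * (q ^ m * x) * t'⁻¹ := by group
        _ = q ^ m * x * t' * t'⁻¹ := by rw [h6]
        _ = q ^ m * x := by group
    obtain ⟨-, h8⟩ := M_unique F.toStart (conjQ F.toStart0 h4 (zpow_mem (mem_zpowers q) m))
      (zpow_mem (mem_zpowers q) m) (conjK F.toStart0 h4 hxK) hxK h7
    rw [mul_inv_eq_iff_eq_mul] at h8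
    exact h8.symm
  -- so `t' ∈ {t, z, tz}`
  have h6 := F.cent_S h4 ht't' h5
  have h7 : ∀ x ∈ T, x * t' = t' * x := by
    intro x hx
    have hxt := F.tc x hx
    have hxz := F.zc x hx
    rcases h6 with h6 | h6 | h6 | h6
    · rw [h6, mul_one, one_mul]
    · rw [h6]; exact hxt
    · rw [h6]; exact hxz
    · rw [h6]; exact (mul_comm' hxt.symm hxz.symm).symm
  have h8 := burn F S hST h7
  apply hg
  rw [mul_inv_eq_iff_eq_mul] at h8
  exact mem_centralizer_singleton_iff.2 h8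

/-- **FE3**: `T` is not a Sylow subgroup of `G`. -/
theorem not_sylow [Finite G] (F : Facts K t q z T) (hG : commutator G = ⊤)
    (hG2 : ∀ H : Subgroup G, H.index ≠ 2) (S : Sylow 2 G) : (S : Subgroup G) ≠ T := by
  by_cases h : (⟨t, F.tT⟩ : ↥T) ∈ commutator ↥T
  · exact not_sylow_B F hG2 h S
  · exact F.frame.not_sylow' hG h S

/-- **The output of the front end.** -/
theorem main [Finite G] (F : Facts K t q z T) (hG : commutator G = ⊤)
    (hG2 : ∀ H : Subgroup G, H.index ≠ 2) :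
    TR.Frame t z T ∧
    ∃ S : Sylow 2 G, T < (S : Subgroup G) ∧ (∀ s ∈ (S : Subgroup G), s * z = z * s) ∧
      (∃ x ∈ (S : Subgroup G), x ∈ normalizer (T : Set G) ∧ x ∉ T ∧ x * t * x⁻¹ = t * z ∧
        x * z * x⁻¹ = z) ∧
      (∀ g, g * t * g⁻¹ ≠ z) ∧
      (⟨t, mem_centralizer_singleton_iff.2 F.frame.comm⟩ : centralizer ({z} : Set G)) ∈
        commutator (centralizer ({z} : Set G)) := by
  have Fr := F.frame
  obtain ⟨S, hS⟩ := F.pT.exists_le_sylow
  have hlt : T < (S : Subgroup G) := lt_of_le_of_ne hS fun h => not_sylow F hG hG2 S h.symm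
  obtain ⟨x, hxS, hxN, hxT, hxt, hxz⟩ := Fr.exists_swap S hlt
  have hnc := Fr.not_conj S hlt
  have hnc2 : ∀ g, g * (t * z) * g⁻¹ ≠ z := by
    intro g hg
    apply hnc (g * x)
    calc g * x * t * (g * x)⁻¹ = g * (x * t * x⁻¹) * g⁻¹ := by group
      _ = z := by rw [hxt]; exact hg
  exact ⟨Fr, S, hlt, Fr.z_central S hlt, ⟨x, hxS, hxN, hxT, hxt, hxz⟩, hnc,
    TFormula.mem_commutator hG Fr.tt T Fr.pT Fr.tc Fr.zc Fr.comm
      (fun g hg => Fr.unique_of_not_conj hnc hnc2 g hg)⟩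

end Cfsg.Agent.OddHalf.D6.RThree.CycW

end

-- merged: Cfsg.Agent.OddHalf.D6.RThree.Front
section

/-!
# ODD half, D6, `L₃(3)`, `U₃(3)`: from the facts on `K` to the position (helper783)

`Emb K t q z Q`: the start and the facts on `K`; `Emb.facts`: the hypotheses of the front end `CycW`.
-/

set_option autoImplicit false

namespace Cfsg.Agent.OddHalf.D6.RThree.Front

open Subgroup Cfsg Cfsg.Agent.OddHalf.Front.FE Cfsg.Agent.OddHalf.Front Cfsg.Agent.OddHalf.D8.GlueE
open Cfsg.Agent.OddHalf.Front.Cyclic (mem_M KQ conjK conjK')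


/-! ### on `K` -/

section K

variable {K : Type*} [Group K] {z : K} {Q : Subgroup K}

theorem zQ' (h : Facts.One z Q) {q : K} (hq : q ∈ Q) : q * z = z * q := by
  by_cases h1 : q = 1
  · rw [h1, one_mul, mul_one]
  by_cases h2 : q = z
  · rw [h2]
  · rw [← h.sq q hq h1 h2, mul_assoc]

theorem nQ (h : Facts.One z Q) {x : K} (hx : x * z = z * x) : ∀ q ∈ Q, x * q * x⁻¹ ∈ Q := by
  intro q hq
  exact h.aut (MulAut.conj x) (by rw [MulAut.conj_apply, hx, mul_inv_cancel_right]) q hq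

theorem pQ (h : Facts.One z Q) : IsPGroup 2 Q :=
  IsPGroup.of_card (n := 3) (by rw [h.card]; norm_num)

theorem exists_ne (h : Facts.One z Q) : ∃ q ∈ Q, q ≠ 1 ∧ q ≠ z := by
  classical
  by_contra hcon
  push Not at hcon
  have : Finite Q := Nat.finite_of_card_ne_zero (by rw [h.card]; norm_num)
  have h1 : (Q : Set K) ⊆ ({1, z} : Set K) := by
    intro x hx
    by_cases hx1 : x = 1
    · exact Or.inl hx1
    · exact Or.inr (hcon x hx hx1)
  have h2 : Nat.card Q ≤ 2 := by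
    have := Set.ncard_le_ncard h1 (Set.toFinite _)
    exact this.trans ((Set.ncard_insert_le _ _).trans (by rw [Set.ncard_singleton]))
  rw [h.card] at h2
  omega

theorem zJ (h : Facts.One z Q) : z ∈ Facts.J z := by
  obtain ⟨a, haz, hao, ha⟩ := h.ex
  obtain ⟨q, hq, hq1, hqz⟩ := exists_ne h
  set r := a * q * a⁻¹ with hr
  have hrQ : r ∈ Q := nQ h haz q hq
  have hne := ha q hq hq1 hqz
  have hai : a⁻¹ * z = z * a⁻¹ := (Commute.inv_left (show Commute a z from haz)).eq
  have hqai : (q * a⁻¹ * q⁻¹) * z = z * (q * a⁻¹ * q⁻¹) := by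
    have c1 : Commute q z := zQ' h hq
    have c2 : Commute a⁻¹ z := hai
    exact ((c1.mul_left c2).mul_left c1.inv_left).eq
  have h1 : r * q⁻¹ ∈ Facts.J z := by
    have e : r * q⁻¹ = a * (q * a⁻¹ * q⁻¹) := by rw [hr]; group
    rw [e]
    refine mul_mem (subset_closure ⟨haz, hao⟩) (subset_closure ⟨hqai, ?_⟩)
    have : orderOf (q * a⁻¹ * q⁻¹) = orderOf a⁻¹ :=
      orderOf_injective (MulAut.conj q).toMonoidHom (MulAut.conj q).injective a⁻¹
    rw [this, orderOf_inv]
    exact hao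
  have h2 : r * q⁻¹ ≠ 1 := by
    intro e
    apply hne
    rw [mul_inv_eq_one] at e
    show q * r = r * q
    rw [e]
  have h3 : r * q⁻¹ ≠ z := by
    intro e
    apply hne
    rw [mul_inv_eq_iff_eq_mul] at e
    show q * r = r * q
    rw [e, ← mul_assoc, zQ' h hq]
  have h4 := mul_mem h1 h1
  rwa [h.sq _ (Q.mul_mem hrQ (Q.inv_mem hq)) h2 h3] at h4

/-- a Sylow subgroup of `K` inside `C_K(z)` -/
theorem exists_sylow [Finite K] (h : Facts.One z Q) :
    ∃ S : Subgroup K, IsPGroup 2 S ∧ (∀ x ∈ S, x * z = z * x) ∧ Q ≤ S ∧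
      (∀ P : Subgroup K, IsPGroup 2 P → S ≤ P → P ≤ S) ∧
      ∀ p : K, p * z = z * p → IsPGroup 2 (zpowers p) → ∃ c : K, c * z = z * c ∧ c * p * c⁻¹ ∈ S := by
  have : Fact (Nat.Prime 2) := ⟨Nat.prime_two⟩
  set C := centralizer ({z} : Set K) with hC
  have hRC : Q ≤ C := fun r hr => mem_centralizer_singleton_iff.2 (zQ' h hr)
  obtain ⟨P, hP⟩ := ((pQ h).comap_of_injective C.subtype C.subtype_injective).exists_le_sylow
  refine ⟨(P : Subgroup C).map C.subtype, P.isPGroup'.map _, ?_, ?_, ?_, ?_⟩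
  · rintro _ ⟨y, -, rfl⟩
    exact mem_centralizer_singleton_iff.1 y.2
  · intro r hr
    exact ⟨⟨r, hRC hr⟩, hP hr, rfl⟩
  · intro Q' hQ hle
    have h1 : Nat.card ((P : Subgroup C).map C.subtype) = Nat.card (P : Subgroup C) :=
      Nat.card_congr ((P : Subgroup C).equivMapOfInjective _ C.subtype_injective).toEquiv.symm
    have h2 : Nat.card Q' ≤ Nat.card (P : Subgroup C) := by
      obtain ⟨Q'', hQ'⟩ := hQ.exists_le_sylow
      have h3 : Nat.card Q' ≤ Nat.card Q'' := Nat.card_le_card_of_injective _ (inclusion_injective hQ')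
      have h4 : Nat.card Q'' = Nat.card (P : Subgroup C) := by
        have h5 := Q''.card_eq_multiplicity
        have h6 := P.card_eq_multiplicity
        have h7 : (Nat.card K).factorization 2 = (Nat.card C).factorization 2 := by
          have h8 := C.index_mul_card
          have h11 : Odd C.index := h.odd
          have h9 : C.index ≠ 0 := by
            rintro h0
            rw [h0] at h11
            exact absurd h11 (by decide)
          have h10 : ¬ 2 ∣ C.index := by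
            rw [Nat.odd_iff] at h11
            omega
          rw [← h8, Nat.factorization_mul h9 Nat.card_pos.ne', Finsupp.add_apply,
            Nat.factorization_eq_zero_of_not_dvd h10, zero_add]
        exact h5.trans ((congrArg (2 ^ ·) h7).trans h6.symm)
      omega
    exact (Subgroup.eq_of_le_of_card_ge hle (by omega)).ge
  · intro p hp hpp
    have hpC : p ∈ C := mem_centralizer_singleton_iff.2 hp
    have h1 : IsPGroup 2 (zpowers (⟨p, hpC⟩ : C)) := by
      have h2 : (zpowers (⟨p, hpC⟩ : C)).map C.subtype = zpowers p := by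
        rw [MonoidHom.map_zpowers]; rfl
      have h3 : IsPGroup 2 ((zpowers (⟨p, hpC⟩ : C)).map C.subtype) := by rw [h2]; exact hpp
      intro g
      obtain ⟨k, hk⟩ := h3 ⟨_, ⟨g, g.2, rfl⟩⟩
      have hk' : (((g : C) : K)) ^ 2 ^ k = 1 := congrArg Subtype.val hk
      refine ⟨k, Subtype.ext (Subtype.ext ?_)⟩
      rw [SubmonoidClass.coe_pow, SubmonoidClass.coe_pow, hk']
      rfl
    obtain ⟨P', hP'⟩ := h1.exists_le_sylow
    obtain ⟨c, hc⟩ := MulAction.exists_smul_eq C P' P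
    refine ⟨c, mem_centralizer_singleton_iff.1 c.2, ?_⟩
    have h4 : c * ⟨p, hpC⟩ * c⁻¹ ∈ (P : Subgroup C) := by
      rw [← hc]
      have h5 : (⟨p, hpC⟩ : C) ∈ P' := hP' (mem_zpowers _)
      exact ⟨_, h5, rfl⟩
    exact ⟨_, h4, rfl⟩

end K

/-! ### in `G` -/

universe u

variable {G : Type u} [Group G]

structure Emb (K : Subgroup G) (t q : G) (z : K) (Q : Subgroup K) : Prop where
  st : Start K t q
  f : Facts.One z Q

variable {K : Subgroup G} {t q : G} {z : K} {Q : Subgroup K}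

namespace Emb

theorem tK (h : Emb K t q z Q) : t ∉ K := fun h1 => h.st.t1 (h.st.cen t h1 fun y hy => h.st.Kt y hy)

theorem comm (h : Emb K t q z Q) : t * (z : G) = z * t := (h.st.Kt z z.2).symm

/-- `Z(K) = 1` -/
theorem cen (h : Emb K t q z Q) {x : K} (hx : MulAut.conj x = 1) : x = 1 := by
  apply Subtype.ext
  apply h.st.cen x x.2
  intro y hy
  have h1 := congrArg Subtype.val (DFunLike.congr_fun hx ⟨y, hy⟩)
  have h2 : (x : G) * y * (x : G)⁻¹ = y := h1
  rw [mul_inv_eq_iff_eq_mul] at h2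
  exact h2.symm

/-- elements of odd order of `C(t)` -/
theorem mem_of_odd (h : Emb K t q z Q) {g : G} (hg : g * t = t * g) (ho : Odd (orderOf g)) : g ∈ K := by
  have hinn : (MulAut.conj : K →* MulAut K).range.Normal := OfSheet.inn_normal K
  set I : Subgroup (MulAut K) := (MulAut.conj : K →* MulAut K).range with hI
  set α : MulAut K := K.normalizerMonoidHom ⟨g, h.st.nK g hg⟩ with hα
  have h2 : α * α ∈ I := by
    rcases (Nat.dvd_prime Nat.prime_two).1 h.f.out with h1 | h1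
    · have h3 : I = ⊤ := Subgroup.index_eq_one.1 h1
      rw [h3]; exact mem_top _
    · exact mul_self_mem_of_index_two h1 α
  have hgg : (g * g) * t = t * (g * g) := by
    have c1 : Commute g t := hg
    exact c1.mul_left c1
  have h3 : g * g ∈ zpowers q ⊔ K := by
    apply OfSheet.mem_of_inn h.st hgg
    have e : K.normalizerMonoidHom ⟨g * g, h.st.nK (g * g) hgg⟩ = α * α := by
      rw [hα, ← map_mul]; rfl
    rw [e]; exact h2
  obtain ⟨n, hn⟩ := ho
  have h4 : g = (g * g) ^ (n + 1) := by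
    have h5 : g ^ (2 * n + 1) = 1 := by rw [← hn]; exact pow_orderOf_eq_one g
    calc g = g ^ (2 * n + 1) * g := by rw [h5, one_mul]
      _ = g ^ (2 * (n + 1)) := by rw [← pow_succ]; congr 1
      _ = (g * g) ^ (n + 1) := by rw [pow_mul, pow_two]
  have h5 : g ∈ zpowers q ⊔ K := by
    rw [h4]; exact pow_mem h3 _
  obtain ⟨a, ha, k, hk, e⟩ := (mem_M h.st.toStart0).1 h5
  have hak : Commute a k := (h.st.QK a ha k hk).symm
  have h6 : a ^ (2 * n + 1) * k ^ (2 * n + 1) = 1 := by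
    rw [← hak.mul_pow, ← e, ← hn, pow_orderOf_eq_one]
  have h7 : a ^ (2 * n + 1) = 1 := by
    apply KQ h.st
    · have : a ^ (2 * n + 1) = (k ^ (2 * n + 1))⁻¹ := eq_inv_of_mul_eq_one_left h6
      rw [this]; exact K.inv_mem (K.pow_mem hk _)
    · exact pow_mem ha _
  have h8 : a = 1 := by
    obtain ⟨m, hm⟩ := h.st.pQ ⟨a, ha⟩
    have hm' : a ^ 2 ^ m = 1 := congrArg Subtype.val hm
    have hcop : Nat.Coprime (2 ^ m) (2 * n + 1) := by
      apply Nat.Coprime.pow_left
      rw [Nat.coprime_two_left]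
      exact ⟨n, rfl⟩
    have h9 : orderOf a ∣ Nat.gcd (2 ^ m) (2 * n + 1) :=
      Nat.dvd_gcd (orderOf_dvd_of_pow_eq_one hm') (orderOf_dvd_of_pow_eq_one h7)
    rw [hcop] at h9
    exact orderOf_eq_one_iff.1 (Nat.dvd_one.1 h9)
  rw [e, h8, one_mul]; exact hk

/-- the subgroup generated by the elements of odd order of `C(t) ∩ C(z)` -/
def O (t z : G) : Subgroup G := closure {x : G | x * t = t * x ∧ x * z = z * x ∧ Odd (orderOf x)}

/-- it is the image of `J` -/
theorem O_le (h : Emb K t q z Q) {x : G} (hx : x ∈ O t z) : ∃ y ∈ Facts.J z, (y : G) = x := by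
  have h1 : O t z ≤ (Facts.J z).map K.subtype := by
    rw [O, closure_le]
    rintro x ⟨hxt, hxz, hxo⟩
    have hxK := h.mem_of_odd hxt hxo
    refine ⟨⟨x, hxK⟩, subset_closure ⟨Subtype.ext hxz, ?_⟩, rfl⟩
    show Odd (orderOf (⟨x, hxK⟩ : K))
    rwa [Subgroup.orderOf_mk]
  obtain ⟨y, hy, e⟩ := h1 hx
  exact ⟨y, hy, e⟩

theorem J_le (h : Emb K t q z Q) {y : K} (hy : y ∈ Facts.J z) : (y : G) ∈ O t z := by
  have h3 : (y : G) ∈ (closure {x : K | x * z = z * x ∧ Odd (orderOf x)}).map K.subtype := ⟨y, hy, rfl⟩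
  rw [MonoidHom.map_closure] at h3
  refine closure_mono ?_ h3
  rintro _ ⟨x, ⟨hy1, hy2⟩, rfl⟩
  refine ⟨h.st.Kt x x.2, congrArg Subtype.val hy1, ?_⟩
  show Odd (orderOf (x : G))
  rwa [Subgroup.orderOf_coe]

theorem isolated (h : Emb K t q z Q) (g : G)
    (h1 : g * t * g⁻¹ = t ∨ g * t * g⁻¹ = z ∨ g * t * g⁻¹ = t * z)
    (h2 : g * z * g⁻¹ = t ∨ g * z * g⁻¹ = z ∨ g * z * g⁻¹ = t * z) : g * z * g⁻¹ = z := by
  have hzO : (z : G) ∈ O t z := h.J_le (zJ h.f)
  have h4 : g⁻¹ * z * g ∈ O t z := by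
    have h5 : MulAut.conj g⁻¹ (z : G) ∈ (O t z).map (MulAut.conj g⁻¹).toMonoidHom := ⟨z, hzO, rfl⟩
    rw [O, MonoidHom.map_closure] at h5
    have e : MulAut.conj g⁻¹ (z : G) = g⁻¹ * z * g := by rw [MulAut.conj_apply, inv_inv]
    rw [e] at h5
    refine closure_mono ?_ h5
    rintro _ ⟨x, ⟨hxt, hxz, hxo⟩, rfl⟩
    obtain ⟨h6, h7⟩ := QThree.Sit.Loc.norm_cen (g := g⁻¹) (t := t) (z := z) (by rwa [inv_inv]) (by rwa [inv_inv])
      x hxt hxz
    refine ⟨h6, h7, ?_⟩
    have : orderOf ((MulAut.conj g⁻¹).toMonoidHom x) = orderOf x :=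
      orderOf_injective (MulAut.conj g⁻¹).toMonoidHom (MulAut.conj g⁻¹).injective x
    rw [this]; exact hxo
  obtain ⟨y, hyJ, hy⟩ := h.O_le h4
  have h5 : y * y = 1 := by
    apply Subtype.ext
    show (y : G) * y = 1
    rw [hy]
    have h6 : (z : G) * z = 1 := congrArg Subtype.val h.f.zz
    calc g⁻¹ * z * g * (g⁻¹ * z * g) = g⁻¹ * (z * z) * g := by group
      _ = 1 := by rw [h6]; group
  rcases h.f.jz y hyJ h5 with e | e
  · exfalso
    apply h.f.z1
    apply Subtype.ext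
    show (z : G) = 1
    rw [e] at hy
    have h7 : (z : G) = g * (g⁻¹ * z * g) * g⁻¹ := by group
    rw [h7, ← hy]
    show g * 1 * g⁻¹ = 1
    group
  · rw [e] at hy
    have h7 : g * (g⁻¹ * z * g) * g⁻¹ = z := by group
    rwa [← hy] at h7

/-- `CycW.Facts` -/
theorem facts [Finite G] (E : Emb K t q z Q) : ∃ T : Subgroup G, CycW.Facts K t q (z : G) T := by
  obtain ⟨S0, hS0p, hzc, hRS, hSmax, hSconj⟩ := exists_sylow E.f
  set S : Sylow 2 K :=
    { toSubgroup := S0
      isPGroup' := hS0p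
      is_maximal' := fun {Q} hQ hle => le_antisymm (hSmax Q hQ hle) hle } with hS
  set C : Subgroup G := centralizer ({t} : Set G) with hC
  have hKC : K ≤ C := fun x hx => mem_centralizer_singleton_iff.2 (E.st.Kt x hx)
  have hS' : IsPGroup 2 ↥((S : Subgroup K).map K.subtype) := S.isPGroup'.map _
  have hS'C : (S : Subgroup K).map K.subtype ≤ C := by
    rintro _ ⟨y, -, rfl⟩
    exact hKC y.2
  obtain ⟨TS, hTS⟩ := (hS'.comap_of_injective C.subtype C.subtype_injective).exists_le_sylow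
  have hTC : (TS : Subgroup C).map C.subtype ≤ C := by
    rintro _ ⟨y, -, rfl⟩
    exact y.2
  have hpT : IsPGroup 2 ↥((TS : Subgroup C).map C.subtype) := TS.isPGroup'.map _
  have hST : (S : Subgroup K).map K.subtype ≤ (TS : Subgroup C).map C.subtype := by
    intro x hx
    exact ⟨⟨x, hS'C hx⟩, hTS hx, rfl⟩
  have htc : ∀ x ∈ (TS : Subgroup C).map C.subtype, x * t = t * x := fun x hx =>
    mem_centralizer_singleton_iff.1 (hTC hx)
  have hTK : ∀ x (hx : x ∈ K), x ∈ (TS : Subgroup C).map C.subtype → (⟨x, hx⟩ : K) ∈ S := by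
    have h1 : IsPGroup 2 ↥(((TS : Subgroup C).map C.subtype).subgroupOf K) :=
      hpT.comap_of_injective K.subtype K.subtype_injective
    have h2 := S.is_maximal' h1 (fun y hy => mem_subgroupOf.2 (hST ⟨y, hy, rfl⟩))
    intro x hx hxT
    have h3 : (⟨x, hx⟩ : K) ∈ ((TS : Subgroup C).map C.subtype).subgroupOf K := mem_subgroupOf.2 hxT
    rw [h2] at h3
    exact h3
  have hKT : ∀ x : K, x ∈ S → (x : G) ∈ (TS : Subgroup C).map C.subtype := fun x hx => hST ⟨x, hx, rfl⟩
  refine ⟨(TS : Subgroup C).map C.subtype,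
    { toStart := E.st
      pT := hpT
      tc := htc
      max := ?_
      z1 := fun e => E.f.z1 (Subtype.ext e)
      zT := hKT z (hRS E.f.zQ)
      zK := z.2
      zz := congrArg Subtype.val E.f.zz
      zS := ?_
      P1 := ?_
      T1s := ?_
      idx := ?_
      iso := ?_ }⟩
  · intro R hR hle hRt
    have h1 : IsPGroup 2 ↥(R.subgroupOf C) := hR.comap_of_injective C.subtype C.subtype_injective
    have h2 := TS.is_maximal' h1 (fun y hy => mem_subgroupOf.2 (hle ⟨y, hy, rfl⟩))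
    intro x hx
    have hxC : x ∈ C := mem_centralizer_singleton_iff.2 (hRt x hx)
    have h3 : (⟨x, hxC⟩ : C) ∈ R.subgroupOf C := mem_subgroupOf.2 hx
    rw [h2] at h3
    exact ⟨⟨x, hxC⟩, h3, rfl⟩
  · intro x hxT hxK
    exact congrArg Subtype.val (hzc ⟨x, hxK⟩ (hTK x hxK hxT))
  · intro y hyT hyK hyy hy
    set y' : K := ⟨y, hyK⟩ with hy'
    have hyy' : y' * y' = 1 := Subtype.ext hyy
    have h1 : Facts.Triv Q (MulAut.conj y') := by
      intro r hr
      rw [MulAut.conj_apply]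
      have h2 : r * y' = y' * r := Subtype.ext (hy r (hKT r (hRS hr)) r.2)
      rw [← h2, mul_inv_cancel_right]
    rcases E.f.k1 _ h1 with h2 | h2 | h2
    · exact Or.inl (congrArg Subtype.val (E.cen h2))
    · right
      have h3 : y' * z⁻¹ = 1 := by
        apply E.cen
        rw [map_mul, h2, ← map_mul, mul_inv_cancel, map_one]
      exact congrArg Subtype.val (mul_inv_eq_one.1 h3)
    · exfalso
      apply E.f.z1
      apply E.cen
      rw [← h2, ← map_mul, hyy', map_one]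
  · intro y hyt hy2 hy
    apply OfSheet.mem_of_inn E.st hyt
    set α := K.normalizerMonoidHom ⟨y, E.st.nK y hyt⟩ with hα
    have hαS : ∀ x ∈ S, α x = x := by
      intro x hx
      apply Subtype.ext
      rw [nmh_apply, ← hy x (hKT x hx) x.2]
      group
    by_contra hcon
    obtain ⟨p, hpz, hp2, hpi⟩ := E.f.exp
    obtain ⟨c, hcz, hcS⟩ := hSconj p hpz hp2
    refine E.f.k5 α (fun r hr => hαS r (hRS hr)) hcon (c * p * c⁻¹) ?_ ?_ ?_ (hαS _ hcS)
    · have c1 : Commute c z := hcz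
      have c2 : Commute p z := hpz
      exact ((c1.mul_left c2).mul_left c1.inv_left).eq
    · have e : zpowers (c * p * c⁻¹) = (zpowers p).map (MulAut.conj c).toMonoidHom := by
        rw [MonoidHom.map_zpowers]; rfl
      rw [e]
      exact hp2.map _
    · rintro ⟨r, hr, h1⟩
      apply hpi
      have hci : c⁻¹ * z = z * c⁻¹ := (Commute.inv_left (show Commute c z from hcz)).eq
      refine ⟨c⁻¹ * r * c, ?_, ?_⟩
      · have := nQ E.f hci r hr
        rwa [inv_inv] at this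
      · intro s hs
        have h2 := h1 (c * s * c⁻¹) (nQ E.f hcz s hs)
        rw [MulAut.conj_apply] at h2 ⊢
        calc p * s * p⁻¹ = c⁻¹ * (c * p * c⁻¹ * (c * s * c⁻¹) * (c * p * c⁻¹)⁻¹) * c := by group
          _ = c⁻¹ * (r * (c * s * c⁻¹) * r⁻¹) * c := by rw [h2]
          _ = c⁻¹ * r * c * s * (c⁻¹ * r * c)⁻¹ := by group
  · intro a ha b hb haM hbM
    refine OfSheet.idx_of_out E.st ?_ hpT htc ha hb haM hbM
    intro h4
    have h5 := h4.trans E.f.out
    omega
  · intro g h1 h2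
    exact E.isolated g h1 h2

/-- an element of `C(t) ∩ C(Q)` -/
theorem triv (E : Emb K t q z Q) {g : G} (hg : g * t = t * g) (hQ : ∀ r ∈ Q, g * r = r * g) :
    Facts.Triv Q (K.normalizerMonoidHom ⟨g, E.st.nK g hg⟩) := by
  intro r hr
  apply Subtype.ext
  rw [nmh_apply, hQ r hr]
  group

/-- it is a product of an element of `⟨q⟩` and an element inducing an automorphism `α` -/
theorem cases (E : Emb K t q z Q) {g : G} (hg : g * t = t * g) (hQ : ∀ r ∈ Q, g * r = r * g) :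
    g ∈ zpowers q ∨ (z : G)⁻¹ * g ∈ zpowers q ∨ (z : G)⁻¹ * (g * g) ∈ zpowers q := by
  have hgg : (g * g) * t = t * (g * g) := by
    have c1 : Commute g t := hg
    exact c1.mul_left c1
  have key : ∀ (g : G) (hg : g * t = t * g) (k : K), K.normalizerMonoidHom ⟨g, E.st.nK g hg⟩ = MulAut.conj k →
      (k : G)⁻¹ * g ∈ zpowers q := by
    intro g hg k hk
    apply E.st.cK
    · have h6 := E.st.Kt (k : G)⁻¹ (K.inv_mem k.2)
      calc (k : G)⁻¹ * g * t = (k : G)⁻¹ * (g * t) := by group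
        _ = ((k : G)⁻¹ * t) * g := by rw [hg]; group
        _ = t * ((k : G)⁻¹ * g) := by rw [h6]; group
    · exact exists_of_conj (E.st.nK g hg) hk
  rcases E.f.k1 _ (E.triv hg hQ) with h1 | h1 | h1
  · left
    have := key g hg 1 (by rw [h1, map_one])
    rwa [OneMemClass.coe_one, inv_one, one_mul] at this
  · right; left
    exact key g hg z h1
  · right; right
    apply key (g * g) hgg z
    rw [← h1, ← map_mul]
    rfl

end Emb

end Cfsg.Agent.OddHalf.D6.RThree.Front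

end

-- merged: Cfsg.Agent.OddHalf.D6.RThree.Hyp
section

/-!
# ODD half, D6, `L₃(3)`, `U₃(3)`: the hypotheses on `X = C_G(z)` (helper783)

`Hyp z t a Q`; `Emb.hyp`: it holds in `C_G(z)`.
-/

set_option autoImplicit false

namespace Cfsg.Agent.OddHalf.D6.RThree

open Subgroup Cfsg Cfsg.Agent.OddHalf.Front.FE Cfsg.Agent.OddHalf.Front Cfsg.Agent.OddHalf.D8.GlueE
open Cfsg.Agent.OddHalf.D6.QThree.NISide
open Cfsg.Agent.OddHalf.Front.Cyclic (KQ t_mem)

section X

variable {X : Type*} [Group X]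

/-- the subgroup generated by the elements of odd order of `C_X(t)` -/
def JJ (t : X) : Subgroup X := closure {x : X | x * t = t * x ∧ Odd (orderOf x)}

/-- `y ∈ C_X(t) ∩ C_X(Q)` -/
def In (t : X) (Q : Subgroup X) (y : X) : Prop := y * t = t * y ∧ ∀ q ∈ Q, y * q = q * y

/-- the four elements of `⟨t, z⟩` -/
def Four (z t x : X) : Prop := x = 1 ∨ x = z ∨ x = t ∨ x = t * z

/-- the hypotheses on `X = C_G(z)` -/
structure Hyp (z t a : X) (Q : Subgroup X) : Prop where
  zc : ∀ x : X, x * z = z * x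
  zz : z * z = 1
  z1 : z ≠ 1
  tt : t * t = 1
  t1 : t ≠ 1
  tz : t ≠ z
  O : pPrimeCore 2 X = ⊥
  s : Side z t a Q ⊥
  ao : Odd (orderOf a)
  nQ : ∀ g, g * t = t * g → ∀ q ∈ Q, g * q * g⁻¹ ∈ Q
  Y2 : ∀ y, In t Q y → IsPGroup 2 (zpowers y)
  Yom : ∀ y, In t Q y → y * y = 1 → Four z t y
  YJ : ∀ y, In t Q y → ∀ b, b * t = t * b → Odd (orderOf b) → y * b = b * y
  SS : ∀ S : Subgroup X, (∀ y ∈ S, In t Q y) → t ∉ S → t * z ∉ S →
    (∀ y ∈ S, y = 1 ∨ y = z ∨ y * y = z) ∧ Nat.card S ≤ 8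
  sq16 : ∀ S : Subgroup X, (∀ y ∈ S, In t Q y) → (∀ y ∈ S, y * y = 1 ∨ y * y = z) → Nat.card S ≤ 16
  jz : ∀ x ∈ JJ t, x * x = 1 → x = 1 ∨ x = z
  jQ : ∀ x ∈ JJ t, (∀ q ∈ Q, x * q = q * x) → x = 1 ∨ x = z
  com : t ∈ _root_.commutator X
  sw : ∃ s : X, s * t * s⁻¹ = t * z

end X

namespace Front.Emb

universe u

variable {G : Type u} [Group G] {K : Subgroup G} {t q : G} {z : K} {Q : Subgroup K}

/-- a subgroup of `C(t) ∩ C(Q)` maps to the automorphisms trivial on `Q` -/
noncomputable def toTriv (E : Emb K t q z Q) (S : Subgroup G) (h1 : ∀ y ∈ S, y * t = t * y)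
    (h2 : ∀ y ∈ S, ∀ r ∈ Q, y * r = r * y) (y : S) : {α : MulAut K // Facts.Triv Q α} :=
  ⟨K.normalizerMonoidHom ⟨y, E.st.nK y (h1 y y.2)⟩, E.triv (h1 y y.2) (h2 y y.2)⟩

/-- the fibres of `toTriv` -/
theorem toTriv_fib (E : Emb K t q z Q) (S : Subgroup G) (h1 : ∀ y ∈ S, y * t = t * y)
    (h2 : ∀ y ∈ S, ∀ r ∈ Q, y * r = r * y) {x y : S} (hxy : E.toTriv S h1 h2 x = E.toTriv S h1 h2 y) :
    (x : G)⁻¹ * y ∈ zpowers q := by
  have h3 : K.normalizerMonoidHom ⟨x, E.st.nK x (h1 x x.2)⟩ = K.normalizerMonoidHom ⟨y, E.st.nK y (h1 y y.2)⟩ :=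
    congrArg Subtype.val hxy
  apply E.st.cK
  · have c1 : Commute (x : G) t := h1 x x.2
    have c2 : Commute (y : G) t := h1 y y.2
    exact (c1.inv_left.mul_left c2).eq
  · intro k hk
    have h4 := congrArg Subtype.val (DFunLike.congr_fun h3 ⟨k, hk⟩)
    rw [nmh_apply, nmh_apply] at h4
    have h5 : (x : G) * k * (x : G)⁻¹ = y * k * (y : G)⁻¹ := h4
    calc k * ((x : G)⁻¹ * y) = (x : G)⁻¹ * (x * k * (x : G)⁻¹) * y := by group
      _ = (x : G)⁻¹ * (y * k * (y : G)⁻¹) * y := by rw [h5]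
      _ = (x : G)⁻¹ * y * k := by group

theorem card_le_eight [Finite G] (E : Emb K t q z Q) (S : Subgroup G) (h1 : ∀ y ∈ S, y * t = t * y)
    (h2 : ∀ y ∈ S, ∀ r ∈ Q, y * r = r * y) (h3 : ∀ y ∈ S, y ∈ zpowers q → y = 1) : Nat.card S ≤ 8 := by
  have hfin : Finite (MulAut K) := inferInstance
  refine (Nat.card_le_card_of_injective (E.toTriv S h1 h2) ?_).trans E.f.k2
  intro x y hxy
  have h4 := h3 ((x : G)⁻¹ * y) (S.mul_mem (S.inv_mem x.2) y.2) (E.toTriv_fib S h1 h2 hxy)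
  exact Subtype.ext (inv_mul_eq_one.1 h4)

theorem card_le_sixteen [Finite G] (E : Emb K t q z Q) (S : Subgroup G) (h1 : ∀ y ∈ S, y * t = t * y)
    (h2 : ∀ y ∈ S, ∀ r ∈ Q, y * r = r * y) (h3 : ∀ y ∈ S, y ∈ zpowers q → y = 1 ∨ y = t) :
    Nat.card S ≤ 16 := by
  classical
  have hfin : Finite (MulAut K) := inferInstance
  by_cases htS : t ∈ S
  · -- a transversal of `⟨t⟩`
    have h5 : Nat.card S ≤ Nat.card ({α : MulAut K // Facts.Triv Q α}) * 2 := by
      have h6 : ∀ y : S, ∃ b : Bool, True := fun _ => ⟨true, trivial⟩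
      set f := E.toTriv S h1 h2 with hf
      let r : {α : MulAut K // Facts.Triv Q α} → S := fun α => if h : ∃ y, f y = α then h.choose else 1
      have hr : ∀ y : S, f (r (f y)) = f y := by
        intro y
        have h7 : ∃ x, f x = f y := ⟨y, rfl⟩
        have : r (f y) = h7.choose := dif_pos h7
        rw [this]
        exact h7.choose_spec
      let g : S → {α : MulAut K // Facts.Triv Q α} × Bool := fun y => (f y, decide ((y : G) = r (f y)))
      have hg : Function.Injective g := by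
        intro x y hxy
        have e1 : f x = f y := congrArg Prod.fst hxy
        have e2 : decide ((x : G) = r (f x)) = decide ((y : G) = r (f y)) := congrArg Prod.snd hxy
        rw [← e1] at e2
        have key : ∀ w : S, f w = f x → (w : G) = r (f x) ∨ (w : G) = r (f x) * t := by
          intro w hw
          have h8 : ((r (f x) : S) : G)⁻¹ * w ∈ zpowers q :=
            E.toTriv_fib S h1 h2 ((hr x).trans hw.symm)
          rcases h3 _ (S.mul_mem (S.inv_mem (r (f x)).2) w.2) h8 with h9 | h9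
          · exact Or.inl (inv_mul_eq_one.1 h9).symm
          · right
            rw [← h9, mul_inv_cancel_left]
        have e3 : ((x : G) = r (f x)) ↔ ((y : G) = r (f x)) := by simpa using e2
        apply Subtype.ext
        rcases key x rfl with k1 | k1 <;> rcases key y e1.symm with k2 | k2
        · rw [k1, k2]
        · exact k1.trans (e3.1 k1).symm
        · exact (e3.2 k2).trans k2.symm
        · rw [k1, k2]
      have h9 := Nat.card_le_card_of_injective g hg
      rwa [Nat.card_prod, Nat.card_eq_two_iff.2 ⟨true, false, by decide, by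
        ext b; cases b <;> simp⟩] at h9
    have := E.f.k2
    omega
  · refine (E.card_le_eight S h1 h2 ?_).trans (by norm_num)
    intro y hy hyq
    rcases h3 y hy hyq with e | e
    · exact e
    · exact absurd (e ▸ hy) htS

/-- the image of `Q` in `C_G(z)` -/
def QX (z : K) (Q : Subgroup K) : Subgroup ↥(centralizer ({(z : G)} : Set G)) :=
  (Q.map K.subtype).subgroupOf (centralizer ({(z : G)} : Set G))

theorem mem_QX {x : ↥(centralizer ({(z : G)} : Set G))} : x ∈ QX z Q ↔ ∃ r ∈ Q, (r : G) = x := by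
  rw [QX, mem_subgroupOf, mem_map]
  rfl

theorem in_iff (E : Emb K t q z Q) {ht : t ∈ centralizer ({(z : G)} : Set G)}
    {y : ↥(centralizer ({(z : G)} : Set G))} :
    In (⟨t, ht⟩ : centralizer ({(z : G)} : Set G)) (QX z Q) y ↔
      (y : G) * t = t * y ∧ ∀ r ∈ Q, (y : G) * r = r * y := by
  constructor
  · rintro ⟨h1, h2⟩
    refine ⟨congrArg Subtype.val h1, fun r hr => ?_⟩
    have hrC : (r : G) ∈ centralizer ({(z : G)} : Set G) :=
      mem_centralizer_singleton_iff.2 (congrArg Subtype.val (zQ' E.f hr))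
    exact congrArg Subtype.val (h2 ⟨r, hrC⟩ (mem_QX.2 ⟨r, hr, rfl⟩))
  · rintro ⟨h1, h2⟩
    refine ⟨Subtype.ext h1, fun r hr => ?_⟩
    obtain ⟨r', hr', e⟩ := mem_QX.1 hr
    apply Subtype.ext
    show (y : G) * r = r * y
    rw [← e]
    exact h2 r' hr'

/-- **the hypotheses hold in `C_G(z)`** -/
theorem hyp [Finite G] (E : Emb K t q z Q)
    (hO : pPrimeCore 2 ↥(centralizer ({(z : G)} : Set G)) = ⊥)
    (hcom : (⟨t, mem_centralizer_singleton_iff.2 E.comm⟩ : centralizer ({(z : G)} : Set G)) ∈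
      _root_.commutator (centralizer ({(z : G)} : Set G)))
    (hsw : ∃ s : G, s * t * s⁻¹ = t * z ∧ s * z * s⁻¹ = z) :
    ∃ a, Hyp (⟨z, mem_centralizer_singleton_iff.2 rfl⟩ : centralizer ({(z : G)} : Set G))
      ⟨t, mem_centralizer_singleton_iff.2 E.comm⟩ a (QX z Q) := by
  set X := centralizer ({(z : G)} : Set G) with hX
  have hmX : ∀ {x : G}, x ∈ X ↔ x * z = z * x := fun {x} => mem_centralizer_singleton_iff
  obtain ⟨a, haz, hao, ha⟩ := E.f.ex
  have hzz : (z : G) * z = 1 := congrArg Subtype.val E.f.zz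
  have hz1 : (z : G) ≠ 1 := fun e => E.f.z1 (Subtype.ext e)
  have hzK : ∀ y ∈ zpowers q, y ∈ K → y = 1 := fun y hy hyK => KQ E.st hyK hy
  have htz : t ≠ z := fun e => E.tK (e ▸ z.2)
  have htzc : t * (z : G) = z * t := E.comm
  have htq := E.st.tQ
  have hzinv : (z : G)⁻¹ = z := inv_eq_of_mul_eq_one_right hzz
  have haX : (a : G) ∈ X := hmX.2 (congrArg Subtype.val haz)
  -- elements of `⟨q⟩` with a trivial square
  have hqsq : ∀ y ∈ zpowers q, y * y = 1 → y = 1 ∨ y = t := by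
    intro y hy hyy
    by_cases h1 : y = 1
    · exact Or.inl h1
    · exact Or.inr (E.st.uniq hy hyy h1)
  have hzq : (z : G) ∉ zpowers q := fun h => hz1 (hzK _ h z.2)
  have hJ : ∀ x : X, x ∈ JJ (⟨t, hmX.2 E.comm⟩ : X) → (x : G) ∈ O t (z : G) := by
    intro x hx
    have h3 : (x : G) ∈ (JJ (⟨t, hmX.2 E.comm⟩ : X)).map X.subtype := ⟨x, hx, rfl⟩
    rw [JJ, MonoidHom.map_closure] at h3
    refine closure_mono ?_ h3
    rintro _ ⟨y, ⟨hy1, hy2⟩, rfl⟩
    refine ⟨congrArg Subtype.val hy1, hmX.1 y.2, ?_⟩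
    show Odd (orderOf (y : G))
    rwa [Subgroup.orderOf_coe]
  refine ⟨⟨a, haX⟩,
    { zc := fun x => Subtype.ext (hmX.1 x.2)
      zz := Subtype.ext hzz
      z1 := fun e => hz1 (congrArg Subtype.val e)
      tt := Subtype.ext E.st.tt
      t1 := fun e => E.st.t1 (congrArg Subtype.val e)
      tz := fun e => htz (congrArg Subtype.val e)
      O := hO
      s := ?_
      ao := by rwa [Subgroup.orderOf_mk, Subgroup.orderOf_coe]
      nQ := ?_
      Y2 := ?_
      Yom := ?_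
      YJ := ?_
      SS := ?_
      sq16 := ?_
      jz := ?_
      jQ := ?_
      com := hcom
      sw := ?_ }⟩
  · -- `s`
    have hQX : (Q.map K.subtype) ≤ X := by
      rintro _ ⟨r, hr, rfl⟩
      exact hmX.2 (congrArg Subtype.val (zQ' E.f hr))
    exact
      { card := by
          rw [QX, Nat.card_congr (subgroupOfEquivOfLe hQX).toEquiv, ← E.f.card]
          exact Nat.card_congr (Q.equivMapOfInjective _ K.subtype_injective).toEquiv.symm
        zQ := mem_QX.2 ⟨z, E.f.zQ, rfl⟩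
        sq := by
          intro r hr h1 h2
          obtain ⟨r', hr', e⟩ := mem_QX.1 hr
          apply Subtype.ext
          show (r : G) * r = z
          rw [← e]
          refine congrArg Subtype.val (E.f.sq r' hr' (fun h => h1 ?_) (fun h => h2 ?_))
          · apply Subtype.ext
            rw [← e, h]; rfl
          · apply Subtype.ext
            rw [← e, h]
        ct := by
          intro r hr
          obtain ⟨r', hr', e⟩ := mem_QX.1 hr
          apply Subtype.ext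
          show (r : G) * t = t * r
          rw [← e]
          exact E.st.Kt r' r'.2
        a_t := Subtype.ext (E.st.Kt a a.2)
        aQ := by
          intro r hr
          obtain ⟨r', hr', e⟩ := mem_QX.1 hr
          refine mem_QX.2 ⟨a * r' * a⁻¹, nQ E.f haz r' hr', ?_⟩
          show (a : G) * r' * (a : G)⁻¹ = a * r * (a : G)⁻¹
          rw [e]
        aD := by
          intro d hd
          rw [mem_bot] at hd
          rw [hd, mul_one, one_mul]
        act := by
          intro r hr h1 h2 h3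
          obtain ⟨r', hr', e⟩ := mem_QX.1 hr
          refine ha r' hr' (fun h => h1 ?_) (fun h => h2 ?_) (Subtype.ext ?_)
          · apply Subtype.ext
            rw [← e, h]; rfl
          · apply Subtype.ext
            rw [← e, h]
          · show (r' : G) * (a * r' * (a : G)⁻¹) = a * r' * (a : G)⁻¹ * r'
            rw [e]
            exact congrArg Subtype.val h3 }
  · -- `nQ`
    intro g hg r hr
    obtain ⟨r', hr', e⟩ := mem_QX.1 hr
    have hgt : (g : G) * t = t * g := congrArg Subtype.val hg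
    set α := K.normalizerMonoidHom ⟨g, E.st.nK g hgt⟩ with hα
    have hz : α z = z := by
      apply Subtype.ext
      rw [nmh_apply, hmX.1 g.2, mul_inv_cancel_right]
    refine mem_QX.2 ⟨α r', E.f.aut α hz r' hr', ?_⟩
    rw [nmh_apply, e]
    rfl
  · -- `Y2`
    intro y hy
    obtain ⟨hyt, hyQ⟩ := E.in_iff.1 hy
    have hq2 : ∀ w ∈ zpowers q, ∃ k : ℕ, w ^ 2 ^ k = 1 := by
      intro w hw
      obtain ⟨k, hk⟩ := E.st.pQ ⟨w, hw⟩
      exact ⟨k, congrArg Subtype.val hk⟩
    obtain ⟨k, hk⟩ : ∃ k : ℕ, (y : G) ^ 2 ^ k = 1 := by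
      have hyz : Commute (y : G) z := hmX.1 y.2
      rcases E.cases hyt hyQ with h1 | h1 | h1
      · exact hq2 _ h1
      · obtain ⟨k, hk⟩ := hq2 _ h1
        refine ⟨k + 1, ?_⟩
        have h2 : (z : G)⁻¹ * y = z * y := by rw [hzinv]
        rw [h2, hyz.symm.mul_pow] at hk
        have h3 : ((z : G) ^ 2 ^ k * (y : G) ^ 2 ^ k) ^ 2 = 1 := by rw [hk, one_pow]
        have c1 : Commute ((z : G) ^ 2 ^ k) ((y : G) ^ 2 ^ k) := (hyz.symm.pow_pow _ _)
        rw [c1.mul_pow, ← pow_mul, ← pow_mul, ← pow_succ, pow_succ', pow_mul (z : G), pow_two, hzz, one_pow,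
          one_mul] at h3
        rwa [pow_succ']
      · obtain ⟨k, hk⟩ := hq2 _ h1
        refine ⟨k + 2, ?_⟩
        have hyz2 : Commute ((y : G) * y) z := hyz.mul_left hyz
        have h2 : (z : G)⁻¹ * (y * y) = z * (y * y) := by rw [hzinv]
        rw [h2, hyz2.symm.mul_pow] at hk
        have h3 : ((z : G) ^ 2 ^ k * ((y : G) * y) ^ 2 ^ k) ^ 2 = 1 := by rw [hk, one_pow]
        have c1 : Commute ((z : G) ^ 2 ^ k) (((y : G) * y) ^ 2 ^ k) := (hyz2.symm.pow_pow _ _)
        rw [c1.mul_pow, ← pow_mul, ← pow_mul, ← pow_succ, pow_succ', pow_mul (z : G), pow_two (z : G), hzz,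
          one_pow, one_mul, ← pow_two, ← pow_mul] at h3
        have e : 2 ^ (k + 2) = 2 * (2 * 2 ^ k) := by rw [pow_succ, pow_succ]; ring
        rw [e]
        exact h3
    have h2 : y ^ 2 ^ k = 1 := Subtype.ext hk
    have : Fact (Nat.Prime 2) := ⟨Nat.prime_two⟩
    have h3 : orderOf y ∣ 2 ^ k := orderOf_dvd_of_pow_eq_one h2
    obtain ⟨m, -, hm⟩ := (Nat.dvd_prime_pow Nat.prime_two).1 h3
    exact IsPGroup.of_card (n := m) (by rw [Nat.card_zpowers, hm])
  · -- `Yom`
    intro y hy hyy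
    obtain ⟨hyt, hyQ⟩ := E.in_iff.1 hy
    have hyy' : (y : G) * y = 1 := congrArg Subtype.val hyy
    have hyz : (y : G) * z = z * y := hmX.1 y.2
    rcases E.cases hyt hyQ with h1 | h1 | h1
    · rcases hqsq _ h1 hyy' with e | e
      · exact Or.inl (Subtype.ext e)
      · exact Or.inr (Or.inr (Or.inl (Subtype.ext e)))
    · have h2 : (z : G)⁻¹ * y * ((z : G)⁻¹ * y) = 1 := by
        rw [hzinv]
        calc (z : G) * y * (z * y) = z * (y * z) * y := by group
          _ = z * (z * y) * y := by rw [hyz]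
          _ = (z * z) * (y * y) := by group
          _ = 1 := by rw [hzz, hyy', one_mul]
      rcases hqsq _ h1 h2 with e | e
      · exact Or.inr (Or.inl (Subtype.ext (inv_mul_eq_one.1 e).symm))
      · refine Or.inr (Or.inr (Or.inr (Subtype.ext ?_)))
        show (y : G) = t * z
        rw [htzc, ← e, mul_inv_cancel_left]
    · exfalso
      rw [hyy', mul_one, hzinv] at h1
      exact hzq h1
  · -- `YJ`
    intro y hy b hbt hbo
    obtain ⟨hyt, hyQ⟩ := E.in_iff.1 hy
    have hbt' : (b : G) * t = t * b := congrArg Subtype.val hbt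
    have hbK : (b : G) ∈ K := E.mem_of_odd hbt' (by rwa [Subgroup.orderOf_coe])
    have h1 : (⟨b, hbK⟩ : K) ∈ Facts.J z :=
      subset_closure ⟨Subtype.ext (hmX.1 b.2), by rwa [Subgroup.orderOf_mk, Subgroup.orderOf_coe]⟩
    have h2 := congrArg Subtype.val (E.f.k3 _ (E.triv hyt hyQ) _ h1)
    rw [nmh_apply] at h2
    have h3 : (y : G) * b * (y : G)⁻¹ = b := h2
    exact Subtype.ext (mul_inv_eq_iff_eq_mul.1 h3)
  · -- `SS`
    intro S hS htS htzS
    have hm : ∀ y ∈ S.map X.subtype, y * t = t * y ∧ ∀ r ∈ Q, y * r = r * y := by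
      rintro _ ⟨y, hy, rfl⟩
      exact E.in_iff.1 (hS y hy)
    have hSq : ∀ y ∈ S.map X.subtype, y ∈ zpowers q → y = 1 := by
      rintro _ ⟨y, hy, rfl⟩ hyq
      by_contra hne
      have h1 := t_mem E.st.toStart0 hyq hne
      obtain ⟨k, hk⟩ := mem_zpowers_iff.1 h1
      apply htS
      have h2 : y ^ k ∈ S := S.zpow_mem hy k
      have h3 : y ^ k = ⟨t, hmX.2 E.comm⟩ := Subtype.ext hk
      rwa [h3] at h2
    constructor
    · intro y hy
      have hyt := (hm y ⟨y, hy, rfl⟩).1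
      have hyQ := (hm y ⟨y, hy, rfl⟩).2
      have hyz : (y : G) * z = z * y := hmX.1 y.2
      have hyy : (y : G) * y ∈ S.map X.subtype := ⟨y * y, S.mul_mem hy hy, rfl⟩
      rcases E.cases hyt hyQ with h1 | h1 | h1
      · exact Or.inl (Subtype.ext (hSq y ⟨y, hy, rfl⟩ h1))
      · right; left
        have h2 : (z : G)⁻¹ * y * ((z : G)⁻¹ * y) = y * y := by
          rw [hzinv]
          calc (z : G) * y * (z * y) = z * (y * z) * y := by group
            _ = z * (z * y) * y := by rw [hyz]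
            _ = (z * z) * (y * y) := by group
            _ = y * y := by rw [hzz, one_mul]
        have h3 : (y : G) * y = 1 := hSq _ hyy (by rw [← h2]; exact mul_mem h1 h1)
        rw [h3] at h2
        rcases hqsq _ h1 h2 with e | e
        · exact Subtype.ext (inv_mul_eq_one.1 e).symm
        · exfalso
          apply htzS
          have h4 : y = ⟨t, hmX.2 E.comm⟩ * ⟨z, hmX.2 rfl⟩ := by
            apply Subtype.ext
            show (y : G) = t * z
            rw [htzc, ← e, mul_inv_cancel_left]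
          rwa [← h4]
      · right; right
        -- `y² = z · r`, `r ∈ ⟨q⟩`
        have hyyS : y * y ∈ S := S.mul_mem hy hy
        have h2 : (z : G)⁻¹ * (y * y) * ((z : G)⁻¹ * (y * y)) = (y * y) * (y * y) := by
          rw [hzinv]
          have c : Commute ((y : G) * y) z := (show Commute (y : G) z from hyz).mul_left hyz
          calc (z : G) * (y * y) * (z * (y * y)) = z * ((y * y) * z) * (y * y) := by group
            _ = z * (z * (y * y)) * (y * y) := by rw [c.eq]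
            _ = (z * z) * ((y * y) * (y * y)) := by group
            _ = (y * y) * (y * y) := by rw [hzz, one_mul]
        have h3 : ((y : G) * y) * (y * y) = 1 :=
          hSq _ ⟨(y * y) * (y * y), S.mul_mem hyyS hyyS, rfl⟩ (by rw [← h2]; exact mul_mem h1 h1)
        rw [h3] at h2
        rcases hqsq _ h1 h2 with e | e
        · exact Subtype.ext (inv_mul_eq_one.1 e).symm
        · exfalso
          apply htzS
          have h4 : y * y = ⟨t, hmX.2 E.comm⟩ * ⟨z, hmX.2 rfl⟩ := by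
            apply Subtype.ext
            show (y : G) * y = t * z
            rw [htzc, ← e, mul_inv_cancel_left]
          rwa [← h4]
    · have h1 : Nat.card S = Nat.card (S.map X.subtype) :=
        Nat.card_congr (S.equivMapOfInjective _ X.subtype_injective).toEquiv
      rw [h1]
      exact E.card_le_eight _ (fun y hy => (hm y hy).1) (fun y hy => (hm y hy).2) hSq
  · -- `sq16`
    intro S hS hsq
    have hm : ∀ y ∈ S.map X.subtype, y * t = t * y ∧ ∀ r ∈ Q, y * r = r * y := by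
      rintro _ ⟨y, hy, rfl⟩
      exact E.in_iff.1 (hS y hy)
    have h1 : Nat.card S = Nat.card (S.map X.subtype) :=
      Nat.card_congr (S.equivMapOfInjective _ X.subtype_injective).toEquiv
    rw [h1]
    apply E.card_le_sixteen _ (fun y hy => (hm y hy).1) (fun y hy => (hm y hy).2)
    rintro _ ⟨y, hy, rfl⟩ hyq
    apply hqsq _ hyq
    rcases hsq y hy with e | e
    · exact congrArg Subtype.val e
    · exfalso
      apply hzq
      have h2 : (y : G) * y = z := congrArg Subtype.val e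
      rw [← h2]
      exact mul_mem hyq hyq
  · -- `jz`
    intro x hx hxx
    obtain ⟨y, hyJ, hy⟩ := E.O_le (hJ x hx)
    have h1 : y * y = 1 := by
      apply Subtype.ext
      show (y : G) * y = 1
      rw [hy]
      exact congrArg Subtype.val hxx
    rcases E.f.jz y hyJ h1 with e | e
    · left
      apply Subtype.ext
      rw [← hy, e]; rfl
    · right
      apply Subtype.ext
      rw [← hy, e]
  · -- `jQ`
    intro x hx hxQ
    obtain ⟨y, hyJ, hy⟩ := E.O_le (hJ x hx)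
    have h1 : ∀ r ∈ Q, y * r = r * y := by
      intro r hr
      have hrC : (r : G) ∈ X := hmX.2 (congrArg Subtype.val (zQ' E.f hr))
      have h2 := congrArg Subtype.val (hxQ ⟨r, hrC⟩ (mem_QX.2 ⟨r, hr, rfl⟩))
      apply Subtype.ext
      show (y : G) * r = r * y
      rw [hy]
      exact h2
    rcases E.f.jQ y hyJ h1 with e | e
    · left
      apply Subtype.ext
      rw [← hy, e]; rfl
    · right
      apply Subtype.ext
      rw [← hy, e]
  · -- `sw`
    obtain ⟨s, h1, h2⟩ := hsw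
    exact ⟨⟨s, hmX.2 (mul_inv_eq_iff_eq_mul.1 h2)⟩, Subtype.ext h1⟩

end Front.Emb

end Cfsg.Agent.OddHalf.D6.RThree

end

-- merged: Cfsg.Agent.OddHalf.D6.RThree.Rad
section

/-!
# ODD half, D6, `L₃(3)`, `U₃(3)`: the normal 2-subgroups of `C_X(t)` (helper783)

`Hyp.rad`: they lie in `Q Y`, `Y = C_X(t) ∩ C(Q)`.
-/

set_option autoImplicit false

namespace Cfsg.Agent.OddHalf.D6.RThree

open Subgroup Cfsg
open Cfsg.Agent.OddHalf.D6.QThree.NISide

variable {X : Type*} [Group X] {z t a : X} {Q : Subgroup X}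

namespace Hyp

theorem zinv (h : Hyp z t a Q) : z⁻¹ = z := inv_eq_of_mul_eq_one_right h.zz

theorem tinv (h : Hyp z t a Q) : t⁻¹ = t := inv_eq_of_mul_eq_one_right h.tt

theorem mem_zp (h : Hyp z t a Q) {x : X} : x ∈ zpowers z ↔ x = 1 ∨ x = z := by
  constructor
  · intro hx
    obtain ⟨k, rfl⟩ := mem_zpowers_iff.1 hx
    rcases Int.even_or_odd k with ⟨m, rfl⟩ | ⟨m, rfl⟩
    · left
      rw [← two_mul, zpow_mul, zpow_ofNat, pow_two, h.zz, one_zpow]
    · right
      rw [zpow_add, zpow_mul, zpow_ofNat, pow_two, h.zz, one_zpow, one_mul, zpow_one]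
  · rintro (rfl | rfl)
    · exact one_mem _
    · exact mem_zpowers _

theorem zn (h : Hyp z t a Q) : (zpowers z).Normal := by
  refine ⟨fun n hn g => ?_⟩
  have h1 : g * n * g⁻¹ = n := by
    rcases h.mem_zp.1 hn with rfl | rfl
    · rw [mul_one, mul_inv_cancel]
    · rw [h.zc g, mul_inv_cancel_right]
  rw [h1]; exact hn

/-- commuting modulo `⟨z⟩` -/
theorem mod_iff (h : Hyp z t a Q) [hn : (zpowers z).Normal] {x y : X} :
    QuotientGroup.mk' (zpowers z) x * QuotientGroup.mk' (zpowers z) y =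
      QuotientGroup.mk' (zpowers z) y * QuotientGroup.mk' (zpowers z) x ↔
    x * y * x⁻¹ = y ∨ x * y * x⁻¹ = y * z := by
  rw [← map_mul, ← map_mul]
  have e0 : QuotientGroup.mk' (zpowers z) (x * y) = QuotientGroup.mk' (zpowers z) (y * x) ↔
      (y * x)⁻¹ * (x * y) = 1 ∨ (y * x)⁻¹ * (x * y) = z := by
    rw [eq_comm, ← h.mem_zp]
    exact QuotientGroup.eq
  rw [e0]
  constructor
  · rintro (e | e)
    · left
      have e1 : x * y = y * x := (inv_mul_eq_one.1 e).symm
      rw [e1, mul_inv_cancel_right]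
    · right
      have e1 : x * y = y * x * z := by rw [← e]; group
      rw [e1, mul_assoc (y * x), ← h.zc x⁻¹, ← mul_assoc, mul_inv_cancel_right]
  · rintro (e | e)
    · left
      rw [inv_mul_eq_one]
      exact (mul_inv_eq_iff_eq_mul.1 e).symm
    · right
      have e1 : x * y = y * z * x := mul_inv_eq_iff_eq_mul.1 e
      rw [e1, mul_assoc y z x, ← h.zc x]
      group

/-- a 2-group acting on `Q` fixes an element of order 4 of `Q` modulo `⟨z⟩` -/
theorem exists_fixed [Finite X] (h : Hyp z t a Q) {W : Subgroup X} (hW : IsPGroup 2 W)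
    (hWQ : ∀ w ∈ W, ∀ q ∈ Q, w * q * w⁻¹ ∈ Q) :
    ∃ q ∈ Q, q ≠ 1 ∧ q ≠ z ∧ ∀ w ∈ W, w * q * w⁻¹ = q ∨ w * q * w⁻¹ = q * z := by
  have : Fact (Nat.Prime 2) := ⟨Nat.prime_two⟩
  have hzn := h.zn
  set π := QuotientGroup.mk' (zpowers z) with hπ
  have hWn : W ≤ normalizer (Q : Set X) := by
    intro w hw
    rw [mem_normalizer_iff]
    intro q
    refine ⟨fun hq => hWQ w hw q hq, fun hq => ?_⟩
    have h1 := hWQ w⁻¹ (W.inv_mem hw) _ hq
    have e : w⁻¹ * (w * q * w⁻¹) * w⁻¹⁻¹ = q := by group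
    rwa [e] at h1
  have hP : IsPGroup 2 ↥(W ⊔ Q : Subgroup X) := IsPGroup.to_sup_of_normal_right' hW h.s.pQ hWn
  set P : Subgroup (X ⧸ zpowers z) := (W ⊔ Q).map π with hPd
  have hPp : IsPGroup 2 P := hP.map π
  set V : Subgroup P := (Q.map π).subgroupOf P with hV
  have hQP : Q.map π ≤ P := map_mono le_sup_right
  have hVn : V.Normal := by
    refine ⟨?_⟩
    rintro ⟨_, x, hx, rfl⟩ hn ⟨_, g, hg, rfl⟩
    rw [hV, mem_subgroupOf] at hn ⊢
    obtain ⟨q, hq, e⟩ := hn
    have hg' : g ∈ normalizer (Q : Set X) := (sup_le hWn le_normalizer) hg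
    refine ⟨g * q * g⁻¹, (mem_normalizer_iff.1 hg' q).1 hq, ?_⟩
    rw [map_mul, map_mul, map_inv, e]
    rfl
  obtain ⟨i, hi, hi1, hiz⟩ := h.s.exists_ne
  have hker : ∀ {x : X}, π x = 1 ↔ x = 1 ∨ x = z := by
    intro x
    rw [← MonoidHom.mem_ker, hπ, QuotientGroup.ker_mk', h.mem_zp]
  have hVne : V ≠ ⊥ := by
    intro e
    have h1 : (⟨π i, hQP ⟨i, hi, rfl⟩⟩ : P) ∈ V := mem_subgroupOf.2 ⟨i, hi, rfl⟩
    rw [e, mem_bot] at h1
    rcases hker.1 (congrArg Subtype.val h1) with e1 | e1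
    · exact hi1 e1
    · exact hiz e1
  have hnil : Group.IsNilpotent P := hPp.isNilpotent
  have h2 := Cfsg.Agent.Lib.NormalAbelian.normal_inf_center_ne_bot V hVne
  obtain ⟨v, hv1⟩ := Subgroup.ne_bot_iff_exists_ne_one.1 h2
  obtain ⟨q, hq, hqv⟩ := mem_subgroupOf.1 (mem_inf.1 v.2).1
  have hvne : π q ≠ 1 := by
    intro e
    apply hv1
    apply Subtype.ext
    apply Subtype.ext
    show (((v : P)) : X ⧸ zpowers z) = 1
    rw [← hqv, e]
  refine ⟨q, hq, fun e => hvne (by rw [e, map_one]), fun e => hvne (hker.2 (Or.inr e)), ?_⟩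
  intro w hw
  rw [← h.mod_iff]
  have hwP : π w ∈ P := ⟨w, (le_sup_left : W ≤ W ⊔ Q) hw, rfl⟩
  have h3 := congrArg Subtype.val (mem_center_iff.1 (mem_inf.1 v.2).2 ⟨π w, hwP⟩)
  have h4 : π w * ((v : P) : X ⧸ zpowers z) = (v : P) * π w := h3
  rw [← hqv] at h4
  exact h4

/-- **normal 2-subgroups of `C_X(t)`** -/
theorem rad [Finite X] (h : Hyp z t a Q) {N : Subgroup X} (hNt : ∀ n ∈ N, n * t = t * n) (hN : IsPGroup 2 N)
    (hNn : ∀ g, g * t = t * g → ∀ n ∈ N, g * n * g⁻¹ ∈ N) : ∀ n ∈ N, ∃ r ∈ Q, In t Q (n * r) := by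
  have hzn := h.zn
  obtain ⟨q, hq, hq1, hqz, hfix⟩ := h.exists_fixed hN fun w hw => h.nQ w (hNt w hw)
  set j := a * q * a⁻¹ with hj
  have hjQ : j ∈ Q := h.s.aQ q hq
  have hqj : q * j ≠ j * q := h.s.act q hq hq1 hqz
  intro n hn
  have hnj : n * j * n⁻¹ = j ∨ n * j * n⁻¹ = j * z := by
    have hai : a⁻¹ * t = t * a⁻¹ := (Commute.inv_left (show Commute a t from h.s.a_t)).eq
    have h1 := hNn a⁻¹ hai n hn
    have e : n * j * n⁻¹ = a * ((a⁻¹ * n * a⁻¹⁻¹) * q * (a⁻¹ * n * a⁻¹⁻¹)⁻¹) * a⁻¹ := by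
      rw [hj]; group
    rcases hfix _ h1 with h2 | h2
    · left; rw [e, h2]
    · right
      rw [e, h2, hj]
      calc a * (q * z) * a⁻¹ = a * q * (z * a⁻¹) := by group
        _ = a * q * a⁻¹ * z := by rw [← h.zc a⁻¹]; group
  set H : Subgroup X := Q ⊓ (centralizer ({QuotientGroup.mk' (zpowers z) n} : Set (X ⧸ zpowers z))).comap
    (QuotientGroup.mk' (zpowers z)) with hH
  have hmH : ∀ x, x ∈ H ↔ x ∈ Q ∧ (n * x * n⁻¹ = x ∨ n * x * n⁻¹ = x * z) := by
    intro x
    rw [hH, mem_inf, mem_comap, mem_centralizer_singleton_iff, ← h.mod_iff, eq_comm (a := _ * _)]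
  have h1 : Q ≤ H := by
    refine h.s.le_of_two h.zc h.zz h.z1 inf_le_left ((hmH z).2 ⟨h.s.zQ, ?_⟩) ((hmH q).2 ⟨hq, hfix n hn⟩)
      ((hmH j).2 ⟨hjQ, hnj⟩) hqj
    left
    rw [h.zc n, mul_inv_cancel_right]
  obtain ⟨r, hr, hrq⟩ := h.s.exists_inner h.zc h.zz h.z1 (g := n) fun x hx => ((hmH x).1 (h1 hx)).2
  refine ⟨r, hr, ?_, hrq⟩
  have c1 : Commute n t := hNt n hn
  have c2 : Commute r t := h.s.ct r hr
  exact (c1.mul_left c2).eq

end Hyp

end Cfsg.Agent.OddHalf.D6.RThree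

end
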